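import Cfsg.Agent.Lib.RankTwoModel.L4.Pair
import Cfsg.Agent.Lib.RankTwoModel.OddNormalized
import Cfsg.Agent.Lib.RankTwo.PairElem
import Cfsg.Agent.Lib.BrauerOrder.ClassSums
import Cfsg.Agent.Lib.CoprimeGen

/-!
The inverted part `I` of the core and its `r`-part `R` in the situation of L4.

* `Frame.Spec.conj_noncentral`: the involutions `≠ z` of `C` are conjugate in `C`;
* `Ctx.normal_I`: `C` normalises `I`; `Ctx.unique_invol`: `z` is the only involution of `C` centralising a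
  non-trivial element of `I`;
* `Std`: `g` is a three-cycle of the four group; `invR`, `coreR` (the core of `C(R)`);
* `Std.exists_top`: the largest `r`-subgroup `P` of the core of `C(R)` invariant under the four group, `D ≤ N(P)`.

Blueprint: `blueprint/RankTwo_L4W.md`, steps 0 and 1.
-/

set_option autoImplicit false
set_option linter.unusedSectionVars false
set_option linter.style.haveILetI false

namespace CfsgLib.RankTwoModel

open Cfsg CfsgLib.BG CfsgLib.GW CfsgLib.BenderMax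
open scoped commutatorElement

universe u

variable {G : Type u} [Group G] [Finite G]

/-- The involutions `≠ z` of `C` are conjugate in `C`. -/
theorem Frame.Spec.conj_noncentral {d : Frame G} (hd : d.Spec) (h : Hyp G) {a b : G} (ha : a ∈ d.C) (hb : b ∈ d.C)
    (ha2 : orderOf a = 2) (hb2 : orderOf b = 2) (haz : a ≠ d.z) (hbz : b ≠ d.z) :
    ∃ k ∈ d.C, k * a * k⁻¹ = b := by
  haveI : Fintype G := Fintype.ofFinite G
  haveI : Fintype ↥(Subgroup.centralizer ({d.z} : Set G)) := Fintype.ofFinite _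
  obtain ⟨Ω, iΩ, D, hD, -⟩ := hd.exists_sys h
  have key : ∀ x : G, ∀ hx : x ∈ d.C, orderOf x = 2 → x ≠ d.z →
      IsConj D.w (⟨x, hx⟩ : ↥(Subgroup.centralizer ({d.z} : Set G))) := fun x hx hx2 hxz =>
    (BrauerOrder.invol_cases hD (p := ⟨x, hx⟩) (by rw [← Subgroup.orderOf_coe]; exact hx2)).resolve_left fun e =>
      hxz ((congrArg Subtype.val e).trans hD.zcv)
  obtain ⟨k, hk⟩ := isConj_iff.1 ((key a ha ha2 haz).symm.trans (key b hb hb2 hbz))
  exact ⟨k, k.2, congrArg Subtype.val hk⟩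

namespace L4

variable {d : Frame G} {g : G} (c : Ctx d g)
include c

theorem Ctx.invI_le : invI d (inv2 d g) ≤ d.O := fun _ hx => (c.mem_invI.1 hx).1

theorem Ctx.invI_inv {x : G} (hx : x ∈ invI d (inv2 d g)) : inv2 d g * x * (inv2 d g)⁻¹ = x⁻¹ :=
  (c.mem_invI.1 hx).2

theorem Ctx.invI_odd : Odd (Nat.card (invI d (inv2 d g))) :=
  d.O_odd.of_dvd_nat (Subgroup.card_dvd_of_le c.invI_le)

theorem Ctx.inv2_sq : inv2 d g * inv2 d g = 1 := invol_mul_self c.inv2_order

/-- An element `≠ 1` of `C_O(u)` centralises no element `≠ 1` of `I`. -/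
theorem Ctx.fpf {f x : G} (hf : f ∈ d.O) (hfu : f * inv2 d g = inv2 d g * f) (hf1 : f ≠ 1)
    (hx : x ∈ invI d (inv2 d g)) (hfx : f * x = x * f) : x = 1 :=
  c.hyp.fixed_core_fpf c.spec c.hq c.od c.hne c.hcm hf hfu hf1 (c.invI_le hx) (c.invI_inv hx) hfx

/-- `C` normalises `I`. -/
theorem Ctx.normal_I {k x : G} (hk : k ∈ d.C) (hx : x ∈ invI d (inv2 d g)) :
    k * x * k⁻¹ ∈ invI d (inv2 d g) := by
  by_contra hj
  have hkO : ∀ y ∈ invI d (inv2 d g), k * y * k⁻¹ ∈ d.O := fun y hy => Frame.Spec.O_conj hk (c.invI_le hy)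
  set j := k * x * k⁻¹ with hjd
  obtain ⟨f, hf, hfu, i, hi, e⟩ := c.fixed_mul_invI (hkO x hx)
  rw [← hjd] at e
  have hf1 : f ≠ 1 := fun e1 => hj (by rw [e, e1, one_mul]; exact hi)
  -- the two subgroups meet trivially
  have hmeet : ∀ a ∈ invI d (inv2 d g), ∀ b ∈ invI d (inv2 d g), a = k * b * k⁻¹ → a = 1 := by
    intro a ha b hb eab
    refine c.fpf hf hfu hf1 ha ?_
    have hja : Commute j a := by
      rw [eab]; exact (Commute.conj_iff k).2 (c.invI_comm hx hb)
    have hia : Commute i a := c.invI_comm hi ha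
    have : Commute (j * i⁻¹) a := hja.mul_left hia.inv_left
    rwa [e, mul_inv_cancel_right] at this
  have hcomm : ∀ a ∈ invI d (inv2 d g), Commute a j := by
    intro a ha
    have hmem : a * j * a⁻¹ * j⁻¹ ∈ invI d (inv2 d g) := by
      have h1 : j * a⁻¹ * j⁻¹ ∈ invI d (inv2 d g) := c.invI_conj (hkO x hx) (inv_mem ha)
      simpa [mul_assoc] using mul_mem ha h1
    obtain ⟨b, hb, eb⟩ : ∃ b ∈ invI d (inv2 d g), a * j * a⁻¹ * j⁻¹ = k * b * k⁻¹ := by
      have h1 : k⁻¹ * a * k ∈ d.O := by simpa using Frame.Spec.O_conj (inv_mem hk) (c.invI_le ha)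
      refine ⟨_, mul_mem (c.invI_conj h1 hx) (inv_mem hx), ?_⟩
      rw [hjd]; group
    exact commutatorElement_eq_one_iff_commute.1 (hmeet _ hmem b hb eb)
  have hx0 : ∀ a ∈ invI d (inv2 d g), a = 1 := by
    intro a ha
    refine c.fpf hf hfu hf1 ha ?_
    have : Commute a (j * i⁻¹) := (hcomm a ha).mul_right (show Commute a i from c.invI_comm ha hi).inv_right
    rw [e, mul_inv_cancel_right] at this
    exact this.symm.eq
  refine hj ?_
  rw [hjd, hx0 x hx, mul_one, mul_inv_cancel]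
  exact one_mem _

/-- `z` is the only involution of `C` centralising a non-trivial element of `I`. -/
theorem Ctx.unique_invol {y v : G} (hy : y ∈ invI d (inv2 d g)) (hy1 : y ≠ 1) (hv : v ∈ d.C) (hv2 : orderOf v = 2)
    (hvy : v * y = y * v) : v = d.z := by
  by_contra hvz
  obtain ⟨k, hk, e⟩ := c.spec.conj_noncentral c.hyp c.inv2_mem hv c.inv2_order hv2 c.inv2_ne hvz
  set y' := k⁻¹ * y * k with hy'
  have hy'I : y' ∈ invI d (inv2 d g) := by simpa using c.normal_I (inv_mem hk) hy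
  have hfix : inv2 d g * y' * (inv2 d g)⁻¹ = y' := by
    rw [hy', show inv2 d g * (k⁻¹ * y * k) * (inv2 d g)⁻¹ =
      k⁻¹ * ((k * inv2 d g * k⁻¹) * y * (k * inv2 d g * k⁻¹)⁻¹) * k by group, e, hvy]
    group
  have h2 : y' * y' = 1 := by
    nth_rewrite 1 [show y' = y'⁻¹ from hfix.symm.trans (c.invI_inv hy'I)]
    exact inv_mul_cancel y'
  have h1 : y' = 1 := eq_one_of_sq_odd h2 (c.invI_odd.of_dvd_nat (Subgroup.orderOf_dvd_natCard _ hy'I))
  exact hy1 (by rw [show y = k * y' * k⁻¹ by rw [hy']; group, h1, mul_one, mul_inv_cancel])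

omit c in
/-- The `r`-part of `I`. -/
def invR (d : Frame G) (g : G) (r : ℕ) : Subgroup G :=
  Subgroup.closure {x | x ∈ invI d (inv2 d g) ∧ ∃ k : ℕ, x ^ r ^ k = 1}

omit c in
/-- The core of the centraliser of `R`, in `G`. -/
noncomputable def coreR (d : Frame G) (g : G) (r : ℕ) : Subgroup G :=
  (oddCore ↥(Subgroup.centralizer (invR d g r : Set G))).map
    (Subgroup.centralizer (invR d g r : Set G)).subtype

theorem Ctx.mem_invR {r : ℕ} {x : G} :
    x ∈ invR d g r ↔ x ∈ invI d (inv2 d g) ∧ ∃ k : ℕ, x ^ r ^ k = 1 := by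
  refine ⟨fun hx => ?_, fun hx => Subgroup.subset_closure hx⟩
  refine Subgroup.closure_induction (fun a ha => ha) ⟨one_mem _, 0, one_pow _⟩ ?_ ?_ hx
  · rintro a b - - ⟨ha, i, hi⟩ ⟨hb, j, hj⟩
    refine ⟨mul_mem ha hb, i + j, ?_⟩
    rw [(show Commute a b from c.invI_comm ha hb).mul_pow, pow_add, pow_mul, hi, one_pow, one_mul, mul_comm,
      pow_mul, hj, one_pow]
  · rintro a - ⟨ha, i, hi⟩
    exact ⟨inv_mem ha, i, by rw [inv_pow, hi, inv_one]⟩

theorem Ctx.invR_conj {r : ℕ} {k x : G} (hk : k ∈ d.C) (hx : x ∈ invR d g r) : k * x * k⁻¹ ∈ invR d g r := by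
  obtain ⟨hx, i, hi⟩ := c.mem_invR.1 hx
  exact c.mem_invR.2 ⟨c.normal_I hk hx, i, by rw [conj_pow, hi, mul_one, mul_inv_cancel]⟩

theorem Ctx.invR_normal {r : ℕ} {k : G} (hk : k ∈ d.C) : k ∈ Subgroup.normalizer (invR d g r : Set G) :=
  Subgroup.mem_normalizer_fintype fun _ hx => c.invR_conj hk hx

omit c

/-- The conjugate of `R` by `k`. -/
def Rc (d : Frame G) (g : G) (r : ℕ) (k : G) : Subgroup G := (invR d g r).map (MulAut.conj k).toMonoidHom

theorem mem_Rc {r : ℕ} {k x : G} : x ∈ Rc d g r k ↔ k⁻¹ * x * k ∈ invR d g r := by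
  rw [Rc, Subgroup.mem_map_equiv, MulAut.conj_symm_apply]

/-- `g` permutes `z`, `u`, `z u` cyclically, and `r` divides `|I|`. -/
structure Std (d : Frame G) (g : G) (r : ℕ) : Prop where
  ctx : Ctx d g
  gu : g * inv2 d g * g⁻¹ = d.z * inv2 d g
  gzu : g * (d.z * inv2 d g) * g⁻¹ = d.z
  prime : r.Prime
  dvd : r ∣ Nat.card (invI d (inv2 d g))

variable {r : ℕ} (s : Std d g r)
include s

theorem Std.zz : d.z * d.z = 1 := invol_mul_self s.ctx.spec.zord

theorem Std.uu : inv2 d g * inv2 d g = 1 := s.ctx.inv2_sq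

theorem Std.zu_comm : d.z * inv2 d g = inv2 d g * d.z := s.ctx.hcm.symm

theorem Std.gz : g * d.z * g⁻¹ = inv2 d g := rfl

theorem Std.odd_r : Odd r := s.ctx.invI_odd.of_dvd_nat s.dvd

theorem Std.exists_ne : ∃ y ∈ invR d g r, y ≠ 1 := by
  haveI := Fact.mk s.prime
  obtain ⟨y, hy⟩ := exists_prime_orderOf_dvd_card' (G := invI d (inv2 d g)) r s.dvd
  refine ⟨y, s.ctx.mem_invR.2 ⟨y.2, 1, ?_⟩, fun e => ?_⟩
  · rw [pow_one, ← hy, ← Subgroup.coe_pow, pow_orderOf_eq_one, Subgroup.coe_one]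
  · rw [show y = 1 from Subtype.ext e, orderOf_one] at hy
    exact s.prime.ne_one hy.symm

theorem Std.invR_le : invR d g r ≤ invI d (inv2 d g) := fun _ hx => (s.ctx.mem_invR.1 hx).1

theorem Std.invR_C : invR d g r ≤ d.C := s.invR_le.trans (s.ctx.invI_le.trans d.O_le)

theorem Std.invR_pgroup : IsPGroup r (invR d g r) := fun x => by
  obtain ⟨k, hk⟩ := (s.ctx.mem_invR.1 x.2).2
  exact ⟨k, Subtype.ext (by rw [Subgroup.coe_pow]; exact hk)⟩

/-- `z` fixes and `u`, `z u` invert `R`. -/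
theorem Std.invR_acts {x : G} (hx : x ∈ invR d g r) :
    d.z * x * d.z⁻¹ = x ∧ inv2 d g * x * (inv2 d g)⁻¹ = x⁻¹ ∧
      d.z * inv2 d g * x * (d.z * inv2 d g)⁻¹ = x⁻¹ := by
  have h1 := Frame.Spec.z_central (s.invR_C hx)
  have h2 := s.ctx.invI_inv (s.invR_le hx)
  refine ⟨by rw [← h1, mul_inv_cancel_right], h2, ?_⟩
  rw [show d.z * inv2 d g * x * (d.z * inv2 d g)⁻¹ = d.z * (inv2 d g * x * (inv2 d g)⁻¹) * d.z⁻¹ by group, h2,
    ← Frame.Spec.z_central (inv_mem (s.invR_C hx)), mul_inv_cancel_right]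

theorem Std.z_cent : d.z ∈ Subgroup.centralizer (invR d g r : Set G) :=
  Subgroup.mem_centralizer_iff.2 fun _ hx => Frame.Spec.z_central (s.invR_C hx)

/-- `C` acts on the conjugates of `R` as on the conjugates of `z`. -/
theorem Std.Rc_eq {k k' : G} (e : k * d.z * k⁻¹ = k' * d.z * k'⁻¹) : Rc d g r k = Rc d g r k' := by
  have hm : k'⁻¹ * k ∈ d.C := Subgroup.mem_centralizer_singleton_iff.2 (by
    calc k'⁻¹ * k * d.z = k'⁻¹ * (k * d.z * k⁻¹) * k := by group
      _ = k'⁻¹ * (k' * d.z * k'⁻¹) * k := by rw [e]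
      _ = _ := by group)
  ext x
  rw [mem_Rc, mem_Rc]
  constructor <;> intro hx
  · simpa [mul_assoc] using s.ctx.invR_conj hm hx
  · simpa [mul_assoc] using s.ctx.invR_conj (inv_mem hm) hx

theorem Std.Rc_one {k : G} (e : k * d.z * k⁻¹ = d.z) : Rc d g r k = invR d g r := by
  rw [s.Rc_eq (k' := 1) (by rw [e, one_mul, inv_one, mul_one])]
  ext x
  rw [mem_Rc, inv_one, one_mul, mul_one]

/-- The only involution of `C` centralising `R` is `z`. -/
theorem Std.isolated {v : G} (hv : v ∈ d.C) (hv2 : orderOf v = 2)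
    (hvR : v ∈ Subgroup.centralizer (invR d g r : Set G)) : v = d.z := by
  obtain ⟨y, hy, hy1⟩ := s.exists_ne
  exact s.ctx.unique_invol (s.invR_le hy) hy1 hv hv2 (Subgroup.mem_centralizer_iff.1 hvR y hy).symm

theorem Std.coreR_le : coreR d g r ≤ Subgroup.centralizer (invR d g r : Set G) := Subgroup.map_subtype_le _

theorem Std.coreR_odd : Odd (Nat.card (coreR d g r)) := by
  rw [coreR, Subgroup.card_map_of_injective (Subgroup.subtype_injective _)]
  exact CfsgLib.odd_card_oddCore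

/-- Commutators with `z` of elements of `C(R)` lie in its core. -/
theorem Std.commutator_coreR {x : G} (hx : x ∈ Subgroup.centralizer (invR d g r : Set G)) :
    d.z * x * d.z⁻¹ * x⁻¹ ∈ coreR d g r := by
  set H := Subgroup.centralizer (invR d g r : Set G)
  set zz : ↥H := ⟨d.z, s.z_cent⟩
  refine ⟨zz * ⟨x, hx⟩ * zz⁻¹ * ⟨x, hx⟩⁻¹,
    CfsgLib.ZStar.commutator_mem (by rw [Subgroup.orderOf_mk]; exact s.ctx.spec.zord) (fun a ha => ?_) _, rfl⟩
  refine Subtype.ext (s.isolated (v := (a : G) * d.z * (a : G)⁻¹) ?_ ((orderOf_cj _ _).trans s.ctx.spec.zord) ?_)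
  · exact Subgroup.mem_centralizer_singleton_iff.2 (congrArg Subtype.val ha.eq).symm
  · exact (a * zz * a⁻¹).2

/-- An odd element of `C(R)` inverted by `z` lies in the core of `C(R)`. -/
theorem Std.mem_coreR {x : G} (hx : x ∈ Subgroup.centralizer (invR d g r : Set G)) (hodd : Odd (orderOf x))
    (hinv : d.z * x * d.z⁻¹ = x⁻¹) : x ∈ coreR d g r := by
  have h1 := inv_mem (s.commutator_coreR hx)
  rw [hinv, show (x⁻¹ * x⁻¹)⁻¹ = x ^ 2 by group] at h1
  obtain ⟨j, hj⟩ := hodd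
  have h2 := pow_mem h1 (j + 1)
  rwa [← pow_mul, show 2 * (j + 1) = orderOf x + 1 by omega, pow_succ, pow_orderOf_eq_one, one_mul] at h2

theorem Std.invR_le_coreR : invR d g r ≤ coreR d g r := by
  intro x hx
  set H := Subgroup.centralizer (invR d g r : Set G)
  have hle : invR d g r ≤ H := fun a ha => Subgroup.mem_centralizer_iff.2 fun b hb =>
    s.ctx.invI_comm (s.invR_le hb) (s.invR_le ha)
  haveI : ((invR d g r).subgroupOf H).Normal := ⟨fun a ha b => by
    rw [Subgroup.mem_subgroupOf] at ha ⊢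
    show (b : G) * a * (b : G)⁻¹ ∈ _
    rwa [← Subgroup.mem_centralizer_iff.1 b.2 a ha, mul_inv_cancel_right]⟩
  refine ⟨⟨x, hle hx⟩, CfsgLib.le_oddCore ?_ (show (⟨x, hle hx⟩ : ↥H) ∈ (invR d g r).subgroupOf H from hx), rfl⟩
  rw [Nat.card_congr (Subgroup.subgroupOfEquivOfLe hle).toEquiv]
  exact s.ctx.invI_odd.of_dvd_nat (Subgroup.card_dvd_of_le s.invR_le)

theorem Std.normalizer_coreR {k : G} (hk : k ∈ Subgroup.normalizer (invR d g r : Set G)) :
    k ∈ Subgroup.normalizer (coreR d g r : Set G) := by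
  set H := Subgroup.centralizer (invR d g r : Set G)
  have hH : Subgroup.zpowers k ≤ Subgroup.normalizer (H : Set G) := Subgroup.zpowers_le.2
    (Subgroup.mem_normalizer_fintype fun a ha => Subgroup.mem_centralizer_iff.2 fun b hb => by
      have h1 : k⁻¹ * b * k ∈ invR d g r := (Subgroup.mem_normalizer_iff''.1 hk b).1 hb
      have h2 := Subgroup.mem_centralizer_iff.1 ha _ h1
      calc b * (k * a * k⁻¹) = k * (k⁻¹ * b * k * a) * k⁻¹ := by group
        _ = k * (a * (k⁻¹ * b * k)) * k⁻¹ := by rw [h2]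
        _ = _ := by group)
  exact (CfsgLib.le_normalizer_map_characteristic hH (oddCore ↥H)).1 (Subgroup.mem_zpowers k)

/-- The elements of the core of `C(R)` centralised by `z` lie in `I`. -/
theorem Std.coreR_inf_C {x : G} (hx : x ∈ coreR d g r) (hxC : x ∈ d.C) : x ∈ invI d (inv2 d g) := by
  have hxO : x ∈ d.O := by
    refine s.ctx.spec.odd_le_O s.ctx.hq (Y := coreR d g r ⊓ d.C) inf_le_right
      (s.coreR_odd.of_dvd_nat (Subgroup.card_dvd_of_le inf_le_left)) (fun a ha => ⟨1, one_mem _, ?_⟩) ⟨hx, hxC⟩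
    rw [mul_one]
    refine Subgroup.mem_normalizer_fintype fun y hy => ⟨?_, ?_⟩
    · exact (Subgroup.mem_normalizer_iff.1 (s.normalizer_coreR (s.ctx.invR_normal (d.D_le ha))) y).1 hy.1
    · exact Subgroup.mul_mem _ (Subgroup.mul_mem _ (d.D_le ha) hy.2) (Subgroup.inv_mem _ (d.D_le ha))
  obtain ⟨f, hf, hfu, i, hi, e⟩ := s.ctx.fixed_mul_invI hxO
  obtain ⟨y, hy, hy1⟩ := s.exists_ne
  by_cases hf1 : f = 1
  · rw [e, hf1, one_mul]; exact hi
  refine absurd (s.ctx.fpf hf hfu hf1 (s.invR_le hy) ?_) hy1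
  have h1 : Commute x y := (Subgroup.mem_centralizer_iff.1 (s.coreR_le hx) y hy).symm
  have h2 := h1.mul_left (show Commute i y from s.ctx.invI_comm hi (s.invR_le hy)).inv_left
  rw [e, mul_inv_cancel_right] at h2
  exact h2.eq

/-- The four group is without fixed points. -/
theorem Std.coreR_fpf {x : G} (hx : x ∈ coreR d g r) (hxz : x * d.z = d.z * x)
    (hxu : x * inv2 d g = inv2 d g * x) : x = 1 := by
  have hI := s.coreR_inf_C hx (Subgroup.mem_centralizer_singleton_iff.2 hxz)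
  have h1 := s.ctx.invI_inv hI
  rw [← hxu, mul_inv_cancel_right] at h1
  refine eq_one_of_sq_odd ?_ (s.ctx.invI_odd.of_dvd_nat (Subgroup.orderOf_dvd_natCard _ hI))
  nth_rewrite 1 [h1]
  exact inv_mul_cancel x

/-- `z` inverts the elements of the core of `C(R)` centralised by an involution `v` without common fixed points. -/
theorem Std.inverted_of_fpf {v : G}
    (hvz : v * d.z = d.z * v)
    (hfix : ∀ x ∈ coreR d g r, x * d.z = d.z * x → x * v = v * x → x = 1) {x : G} (hx : x ∈ coreR d g r)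
    (hxv : x * v = v * x) : d.z * x * d.z⁻¹ = x⁻¹ := by
  set W := coreR d g r ⊓ Subgroup.centralizer ({v} : Set G) with hW
  have hzN : d.z ∈ Subgroup.normalizer (W : Set G) := Subgroup.mem_normalizer_fintype fun a ha => by
    refine ⟨(Subgroup.mem_normalizer_iff.1 (s.normalizer_coreR (Subgroup.centralizer_le_normalizer _ s.z_cent)) a).1
      ha.1, Subgroup.mul_mem _ (Subgroup.mul_mem _ ?_ ha.2) (Subgroup.inv_mem _ ?_)⟩ <;> exact Subgroup.mem_centralizer_singleton_iff.2 hvz.symm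
  obtain ⟨a, ha, b, -, hza, hzb, e⟩ := exists_fixed_mul_inverted
    (s.coreR_odd.of_dvd_nat (Subgroup.card_dvd_of_le (inf_le_left : W ≤ _))) hzN s.zz
    (show x ∈ W from ⟨hx, Subgroup.mem_centralizer_singleton_iff.2 hxv⟩)
  have ha1 : a = 1 := hfix a ha.1 (mul_inv_eq_iff_eq_mul.1 hza).symm (Subgroup.mem_centralizer_singleton_iff.1 ha.2)
  rw [e, ha1, one_mul]
  exact hzb

/-- The largest `r`-subgroup of the core of `C(R)` invariant under the four group. -/
structure Top (d : Frame G) (g : G) (r : ℕ) (P : Subgroup G) : Prop where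
  le : P ≤ coreR d g r
  pgroup : IsPGroup r P
  invariant : four d.z (inv2 d g) ≤ Subgroup.normalizer (P : Set G)
  sylow : ∃ S : Sylow r ↥(coreR d g r), (S : Subgroup ↥(coreR d g r)).map (coreR d g r).subtype = P
  max : ∀ Q : Subgroup G, Q ≤ coreR d g r → IsPGroup r Q →
    four d.z (inv2 d g) ≤ Subgroup.normalizer (Q : Set G) → Q ≤ P

theorem Std.four_coprime : (Nat.card (four d.z (inv2 d g))).Coprime (Nat.card (coreR d g r)) := by
  rw [(isKleinFour_four s.ctx.spec.zord s.ctx.inv2_order s.zu_comm s.ctx.inv2_ne).card_four]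
  exact Nat.Coprime.pow_left 2 (Nat.coprime_two_left.2 s.coreR_odd)

theorem Std.four_normalizer : four d.z (inv2 d g) ≤ Subgroup.normalizer (coreR d g r : Set G) :=
  four_le (s.normalizer_coreR (Subgroup.centralizer_le_normalizer _ s.z_cent))
    (s.normalizer_coreR (s.ctx.invR_normal s.ctx.inv2_mem))

theorem Std.exists_top : ∃ P : Subgroup G, Top d g r P := by
  haveI := Fact.mk s.prime
  have hA : Group.IsSolvable ↥(four d.z (inv2 d g)) := Group.isSolvable_of_comm fun a b =>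
    Subtype.ext (four_comm s.ctx.spec.zord s.ctx.inv2_order s.zu_comm s.ctx.inv2_ne a.2 b.2)
  obtain ⟨S, hS⟩ := CfsgLib.coprime_exists_invariant_sylow s.four_normalizer s.four_coprime (Or.inl hA) r
  refine ⟨_, Subgroup.map_subtype_le _, S.2.map _, hS, ⟨S, rfl⟩, fun Q hQ hQp hQU => ?_⟩
  obtain ⟨T, hQT, hT⟩ := CfsgLib.coprime_le_invariant_sylow s.four_normalizer s.four_coprime (Or.inl hA) hQ hQp hQU
  obtain ⟨k, hk, e⟩ := CfsgLib.coprime_invariant_sylow_conj s.four_normalizer s.four_coprime (Or.inl hA) T S hT hS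
  have hk1 : k = 1 := Subtype.ext (s.coreR_fpf k.2
    (Subgroup.mem_centralizer_iff.1 hk _ (left_mem_four _ _)).symm
    (Subgroup.mem_centralizer_iff.1 hk _ (right_mem_four _ _)).symm)
  rw [hk1, map_one, one_smul] at e
  rwa [← e]

variable {P : Subgroup G} (t : Top d g r P)
include t

theorem Std.invR_le_top : invR d g r ≤ P :=
  t.max _ s.invR_le_coreR s.invR_pgroup
    (four_le (s.ctx.invR_normal Frame.Spec.z_mem_C) (s.ctx.invR_normal s.ctx.inv2_mem))

/-- `C_P(z) = R`. -/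
theorem Std.top_inf_C {x : G} (hx : x ∈ P) (hxz : x * d.z = d.z * x) : x ∈ invR d g r := by
  obtain ⟨k, hk⟩ := t.pgroup ⟨x, hx⟩
  exact s.ctx.mem_invR.2 ⟨s.coreR_inf_C (t.le hx) (Subgroup.mem_centralizer_singleton_iff.2 hxz), k,
    by simpa using congrArg Subtype.val hk⟩

/-- An element normalising `R` and the four group normalises `P`. -/
theorem Std.top_conj {k : G} (hk : k ∈ Subgroup.normalizer (invR d g r : Set G))
    (hkU : k ∈ Subgroup.normalizer (four d.z (inv2 d g) : Set G)) : k ∈ Subgroup.normalizer (P : Set G) := by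
  refine Subgroup.mem_normalizer_fintype fun x hx => ?_
  refine t.max (P.map (MulAut.conj k).toMonoidHom) ?_ (t.pgroup.map _) ?_ ⟨x, hx, rfl⟩
  · rintro _ ⟨y, hy, rfl⟩
    exact (Subgroup.mem_normalizer_iff.1 (s.normalizer_coreR hk) y).1 (t.le hy)
  · intro a ha
    refine Subgroup.mem_normalizer_fintype ?_
    rintro _ ⟨y, hy, rfl⟩
    have h1 : k⁻¹ * a * k ∈ four d.z (inv2 d g) := (Subgroup.mem_normalizer_iff''.1 hkU a).1 ha
    exact ⟨_, (Subgroup.mem_normalizer_iff.1 (t.invariant h1) y).1 hy, by simp [mul_assoc]⟩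

/-- `D` normalises `P`. -/
theorem Std.D_le_top : d.D ≤ Subgroup.normalizer (P : Set G) := by
  haveI := Fact.mk s.prime
  set X := coreR d g r with hXd
  have hzX : Subgroup.zpowers d.z ≤ Subgroup.normalizer (X : Set G) := Subgroup.zpowers_le.2
    (s.normalizer_coreR (Subgroup.centralizer_le_normalizer _ s.z_cent))
  have hcop : (Nat.card (Subgroup.zpowers d.z)).Coprime (Nat.card X) := by
    rw [Nat.card_zpowers, s.ctx.spec.zord]
    exact Nat.coprime_two_left.2 s.coreR_odd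
  obtain ⟨S, hS⟩ := t.sylow
  have hSz : Subgroup.zpowers d.z ≤ Subgroup.normalizer ((S : Subgroup ↥X).map X.subtype : Set G) := by
    rw [hS]; exact Subgroup.zpowers_le.2 (t.invariant (left_mem_four _ _))
  -- a translate of each element normalises `P`
  have hstep : ∀ y ∈ d.D, ∃ o ∈ invI d (inv2 d g), o * y ∈ Subgroup.normalizer (P : Set G) := by
    intro y hy
    have hyX := s.normalizer_coreR (s.ctx.invR_normal (d.D_le hy))
    set P' := P.map (MulAut.conj y).toMonoidHom with hP'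
    have hP'X : P' ≤ X := by
      rintro _ ⟨a, ha, rfl⟩
      exact (Subgroup.mem_normalizer_iff.1 hyX a).1 (t.le ha)
    have hcard : Nat.card (P'.subgroupOf X) = r ^ (Nat.card ↥X).factorization r := by
      rw [Nat.card_congr (Subgroup.subgroupOfEquivOfLe hP'X).toEquiv, hP',
        Subgroup.card_map_of_injective (MulAut.conj y).injective, ← hS,
        Subgroup.card_map_of_injective (Subgroup.subtype_injective _)]
      exact S.card_eq_multiplicity
    let T : Sylow r ↥X := Sylow.ofCard (P'.subgroupOf X) hcard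
    have hTm : (T : Subgroup ↥X).map X.subtype = P' := by
      rw [Sylow.coe_ofCard, Subgroup.subgroupOf_map_subtype, inf_eq_left.2 hP'X]
    have hTz : Subgroup.zpowers d.z ≤ Subgroup.normalizer ((T : Subgroup ↥X).map X.subtype : Set G) := by
      rw [hTm]
      refine Subgroup.zpowers_le.2 (Subgroup.mem_normalizer_fintype ?_)
      rintro _ ⟨a, ha, rfl⟩
      refine ⟨d.z * a * d.z⁻¹, (Subgroup.mem_normalizer_iff.1 (t.invariant (left_mem_four _ _)) a).1 ha, ?_⟩
      show y * (d.z * a * d.z⁻¹) * y⁻¹ = d.z * (y * a * y⁻¹) * d.z⁻¹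
      have e := Frame.Spec.z_central (d.D_le hy)
      calc y * (d.z * a * d.z⁻¹) * y⁻¹ = (y * d.z) * a * (y * d.z)⁻¹ := by group
        _ = (d.z * y) * a * (d.z * y)⁻¹ := by rw [e]
        _ = _ := by group
    obtain ⟨k, hk, e⟩ := CfsgLib.coprime_invariant_sylow_conj hzX hcop
      (Or.inl (Group.isSolvable_of_comm fun a b => Subtype.ext (by
        obtain ⟨m, hm⟩ := Subgroup.mem_zpowers_iff.1 a.2
        obtain ⟨n, hn⟩ := Subgroup.mem_zpowers_iff.1 b.2
        show (a : G) * b = b * a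
        rw [← hm, ← hn, ← zpow_add, ← zpow_add, add_comm]))) S T hSz hTz
    have hkI : (k : G) ∈ invI d (inv2 d g) := s.coreR_inf_C k.2
      (Subgroup.mem_centralizer_singleton_iff.2
        (Subgroup.mem_centralizer_iff.1 hk _ (Subgroup.mem_zpowers _)).symm)
    refine ⟨(k : G)⁻¹, inv_mem hkI, Subgroup.mem_normalizer_fintype fun a ha => ?_⟩
    obtain ⟨a', ha', rfl⟩ : a ∈ (S : Subgroup ↥X).map X.subtype := by rw [hS]; exact ha
    have h1 : y * (a' : G) * y⁻¹ ∈ (T : Subgroup ↥X).map X.subtype := by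
      rw [hTm]; exact ⟨a', ha, rfl⟩
    obtain ⟨b, hb, hb'⟩ := h1
    rw [← e] at hb
    obtain ⟨b', hb'', rfl⟩ := hb
    show (k : G)⁻¹ * y * (a' : G) * ((k : G)⁻¹ * y)⁻¹ ∈ (P : Set G)
    rw [show (k : G)⁻¹ * y * (a' : G) * ((k : G)⁻¹ * y)⁻¹ = (k : G)⁻¹ * (y * (a' : G) * y⁻¹) * k by group, ← hb']
    show (k : G)⁻¹ * ((k : G) * (b' : G) * (k : G)⁻¹) * k ∈ (P : Set G)
    rw [show (k : G)⁻¹ * ((k : G) * (b' : G) * (k : G)⁻¹) * k = (b' : G) by group]
    exact hS ▸ ⟨b', hb'', rfl⟩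
  have hperf : ⁅d.D, d.D⁆ = d.D := by
    haveI := d.D_perfect
    have := congrArg (Subgroup.map d.D.subtype) (Group.IsPerfect.commutator_eq_top (G := ↥d.D))
    rwa [Subgroup.map_subtype_commutator, ← MonoidHom.range_eq_map, Subgroup.range_subtype] at this
  rw [← hperf, Subgroup.commutator_le]
  intro a ha b hb
  obtain ⟨o, ho, hoa⟩ := hstep a ha
  obtain ⟨o', ho', hob⟩ := hstep b hb
  have e : ⁅o * a, o' * b⁆ = ⁅a, b⁆ := by
    have c1 : Commute o a := s.ctx.od _ (s.ctx.invI_le ho) _ ha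
    have c2 : Commute o b := s.ctx.od _ (s.ctx.invI_le ho) _ hb
    have c3 : Commute o' a := s.ctx.od _ (s.ctx.invI_le ho') _ ha
    have c4 : Commute o' b := s.ctx.od _ (s.ctx.invI_le ho') _ hb
    have c5 : Commute o o' := s.ctx.invI_comm ho ho'
    rw [commutatorElement_def, commutatorElement_def, mul_inv_rev, mul_inv_rev]
    calc o * a * (o' * b) * (a⁻¹ * o⁻¹) * (b⁻¹ * o'⁻¹)
        = o * (a * o') * b * a⁻¹ * (o⁻¹ * b⁻¹) * o'⁻¹ := by group
      _ = o * (o' * a) * b * a⁻¹ * (b⁻¹ * o⁻¹) * o'⁻¹ := by rw [c3.symm.eq, c2.inv_left.inv_right.eq]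
      _ = (o * o') * (a * b * a⁻¹ * b⁻¹) * (o' * o)⁻¹ := by group
      _ = a * b * a⁻¹ * b⁻¹ := by
        rw [c5.eq]
        have h6 : Commute (o' * o) (a * b * a⁻¹ * b⁻¹) :=
          (((c3.mul_left c1).mul_right (c4.mul_left c2)).mul_right (c3.mul_left c1).inv_right).mul_right
            (c4.mul_left c2).inv_right
        rw [h6.eq, mul_inv_cancel_right]
  rw [← e]
  rw [commutatorElement_def]
  exact mul_mem (mul_mem (mul_mem hoa hob) (inv_mem hoa)) (inv_mem hob)

end L4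

end CfsgLib.RankTwoModel
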