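import Cfsg.Agent.Lib.RankTwoModel.L4.W.Root

/-!
The `r`-part of `|G|` is that of `|C|` for the prime divisors `r` of `|I|`.

* `Ctx.le_C_of_invariant`: an `r`-subgroup containing `R` and invariant under `z` lies in `C`;
* `Ctx.v_eq`: `v_r|G| = v_r|C|`;
* `Ctx.cent_le`: `C(a) ≤ C` for `1 ≠ a ∈ I`.

Blueprint: `blueprint/RankTwo_L4W.md`, steps 5 and 6.
-/

set_option autoImplicit false
set_option linter.unusedSectionVars false
set_option linter.style.haveILetI false

namespace CfsgLib.RankTwoModel.L4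

open Cfsg CfsgLib.BG CfsgLib.GW CfsgLib.BenderMax CfsgLib.RankTwoModel
open CfsgLib.RankTwoModel.Shape (ConjBy)
open scoped MatrixGroups

universe u

variable {G : Type u} [Group G] [Finite G] {d : Frame G}

local notation "SL[" d "]" => Matrix.SpecialLinearGroup (Fin 2) (Frame.F d)
local notation "M2[" d "]" => Matrix (Fin 2) (Fin 2) (Frame.F d)

/-- An involution and a conjugate of it, in a subgroup where no other involution commutes with it, have product of
odd order. -/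
theorem odd_mul_of_isolated {H : Subgroup G} {z v : G} (hz : orderOf z = 2) (hv : orderOf v = 2) (hzH : z ∈ H)
    (hvH : v ∈ H) (hiso : ∀ t ∈ H, orderOf t = 2 → t * z = z * t → t = z) :
    Odd (orderOf (v * z)) ∧ z * (v * z) * z⁻¹ = (v * z)⁻¹ := by
  have hzz := invol_mul_self hz
  have hvv := invol_mul_self hv
  have hinv : z * (v * z) * z⁻¹ = (v * z)⁻¹ := by
    rw [mul_inv_rev, invol_inv hz, invol_inv hv]
    calc z * (v * z) * z = z * v * (z * z) := by group
      _ = z * v := by rw [hzz, mul_one]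
  refine ⟨?_, hinv⟩
  rcases Nat.even_or_odd (orderOf (v * z)) with ⟨k, hk⟩ | h
  swap
  · exact h
  exfalso
  have hk0 : 0 < k := by have := orderOf_pos (v * z); omega
  set t := (v * z) ^ k with ht
  have ht1 : t ≠ 1 := fun e => by
    have := Nat.le_of_dvd hk0 (orderOf_dvd_of_pow_eq_one e)
    omega
  have ht2 : orderOf t = 2 := orderOf_eq_prime (by rw [ht, ← pow_mul, mul_two, ← hk, pow_orderOf_eq_one]) ht1
  have hzt : z * t * z⁻¹ = t := by
    rw [ht, ← conj_pow, hinv, inv_pow, ← ht, invol_inv ht2]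
  have htz : t = z := hiso t (pow_mem (mul_mem hvH hzH) _) ht2 (mul_inv_eq_iff_eq_mul.1 hzt).symm
  have hcz : (v * z) * z = z * (v * z) := by
    have h1 : Commute (v * z) t := Commute.self_pow _ _
    rwa [htz] at h1
  have h2 : (v * z) ^ 2 = 1 := by
    have e : (v * z)⁻¹ = v * z := by rw [← hinv, ← hcz, mul_inv_cancel_right]
    rw [pow_two]
    nth_rewrite 1 [← e]
    exact inv_mul_cancel _
  have hk1 : k = 1 := by
    have := Nat.le_of_dvd two_pos (orderOf_dvd_of_pow_eq_one h2)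
    omega
  have e : v * z = z := by rwa [ht, hk1, pow_one] at htz
  exact ne_one_of_invol hv (mul_eq_right.1 e)

/-- Two invariant `r`-subgroups of an odd group, the second normalised by the centraliser of the four group,
generate an `r`-group. -/
theorem exists_rgroup_pair {g : G} {r : ℕ} [Fact r.Prime] (c : Ctx d g) {W A B : Subgroup G}
    (hodd : Odd (Nat.card W)) (hW : four d.z (inv2 d g) ≤ Subgroup.normalizer (W : Set G))
    (hA : A ≤ W) (hAp : IsPGroup r A) (hAn : four d.z (inv2 d g) ≤ Subgroup.normalizer (A : Set G))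
    (hB : B ≤ W) (hBp : IsPGroup r B) (hBn : four d.z (inv2 d g) ≤ Subgroup.normalizer (B : Set G))
    (hfix : ∀ k : G, k * d.z = d.z * k → k * inv2 d g = inv2 d g * k → ∀ b ∈ B, k * b * k⁻¹ ∈ B) :
    ∃ S : Subgroup G, IsPGroup r S ∧ four d.z (inv2 d g) ≤ Subgroup.normalizer (S : Set G) ∧ A ≤ S ∧ B ≤ S := by
  have hc := c.hcm.symm
  have hcop : (Nat.card (four d.z (inv2 d g))).Coprime (Nat.card W) := by
    rw [(isKleinFour_four c.spec.zord c.inv2_order hc c.inv2_ne).card_four]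
    exact Nat.Coprime.pow_left 2 (Nat.coprime_two_left.2 hodd)
  have hsolv : Group.IsSolvable ↥(four d.z (inv2 d g)) := Group.isSolvable_of_comm fun a b =>
    Subtype.ext (four_comm c.spec.zord c.inv2_order hc c.inv2_ne a.2 b.2)
  obtain ⟨Sa, hSa, hSaU⟩ := CfsgLib.coprime_le_invariant_sylow hW hcop (Or.inl hsolv) hA hAp hAn
  obtain ⟨Sb, hSb, hSbU⟩ := CfsgLib.coprime_le_invariant_sylow hW hcop (Or.inl hsolv) hB hBp hBn
  obtain ⟨k, hk, e⟩ := CfsgLib.coprime_invariant_sylow_conj hW hcop (Or.inl hsolv) Sa Sb hSaU hSbU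
  refine ⟨(Sa : Subgroup ↥W).map W.subtype, Sa.2.map _, hSaU, hSa, fun b hb => ?_⟩
  have h1 : (k : G) * b * (k : G)⁻¹ ∈ B := hfix k (Subgroup.mem_centralizer_iff.1 hk _ (left_mem_four _ _)).symm
    (Subgroup.mem_centralizer_iff.1 hk _ (right_mem_four _ _)).symm b hb
  obtain ⟨a, ha, hae⟩ := hSb h1
  rw [← e] at ha
  obtain ⟨a', ha', rfl⟩ := ha
  refine ⟨a', ha', ?_⟩
  have hae' : (k : G) * (a' : G) * (k : G)⁻¹ = (k : G) * b * (k : G)⁻¹ := hae
  exact mul_left_cancel (mul_right_cancel hae')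

variable {g : G} (c : Ctx d g)

theorem invR_congr {g' : G} (e : inv2 d g' = inv2 d g) (r : ℕ) : invR d g' r = invR d g r := by
  rw [invR, invR, e]

include c

/-- A three-cycle with the same second involution. -/
theorem Ctx.exists_std {r : ℕ} (hr : r.Prime) (hdvd : r ∣ Nat.card (invI d (inv2 d g))) :
    ∃ g₁ : G, inv2 d g₁ = inv2 d g ∧ Std d g₁ r := by
  obtain ⟨g₁, h1, h2, h3⟩ := c.hyp.three c.spec.zord c.inv2_order c.hcm.symm c.inv2_ne
  have e : inv2 d g₁ = inv2 d g := h1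
  refine ⟨g₁, e,
    { ctx := { hyp := c.hyp, spec := c.spec, hq := c.hq, od := c.od
               hne := by rw [h1]; exact c.inv2_ne
               hcm := by rw [h1]; exact c.hcm }
      gu := by rw [e]; exact h2
      gzu := by rw [e]; exact h3
      prime := hr
      dvd := by rw [e]; exact hdvd }⟩

omit c

variable {r : ℕ} (s : Std d g r)
include s

/-- An odd subgroup of `C(R)` invariant under `z` has trivial inverted `r`-elements. -/
theorem Std.inverted_trivial {b : G} (hb : b ∈ Subgroup.centralizer (invR d g r : Set G))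
    (hpow : ∃ i : ℕ, b ^ r ^ i = 1) (hinv : d.z * b * d.z⁻¹ = b⁻¹) : b = 1 := by
  haveI := Fact.mk s.prime
  obtain ⟨P, t⟩ := s.exists_top
  obtain ⟨S, hS⟩ := t.sylow
  have hP := s.top_eq t
  obtain ⟨i, hi⟩ := hpow
  have hodd : Odd (orderOf b) := (s.odd_r.pow (n := i)).of_dvd_nat (orderOf_dvd_of_pow_eq_one hi)
  have hbX := s.mem_coreR hb hodd hinv
  have hbp : IsPGroup r (Subgroup.zpowers b) := by
    obtain ⟨m, -, hm⟩ := (Nat.dvd_prime_pow s.prime).1 (orderOf_dvd_of_pow_eq_one hi)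
    exact IsPGroup.of_card (n := m) (by rw [Nat.card_zpowers, hm])
  have hzX : Subgroup.zpowers d.z ≤ Subgroup.normalizer (coreR d g r : Set G) :=
    Subgroup.zpowers_le.2 (s.normalizer_coreR (Subgroup.centralizer_le_normalizer _ s.z_cent))
  have hcop : (Nat.card (Subgroup.zpowers d.z)).Coprime (Nat.card (coreR d g r)) := by
    rw [Nat.card_zpowers, s.ctx.spec.zord]
    exact Nat.coprime_two_left.2 s.coreR_odd
  have hsolv : Group.IsSolvable ↥(Subgroup.zpowers d.z) := Group.isSolvable_of_comm fun a b => Subtype.ext (by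
    obtain ⟨m, hm⟩ := Subgroup.mem_zpowers_iff.1 a.2
    obtain ⟨n, hn⟩ := Subgroup.mem_zpowers_iff.1 b.2
    show (a : G) * b = b * a
    rw [← hm, ← hn, ← zpow_add, ← zpow_add, add_comm])
  obtain ⟨T, hbT, hTz⟩ := CfsgLib.coprime_le_invariant_sylow hzX hcop (Or.inl hsolv)
    (Subgroup.zpowers_le.2 hbX) hbp (Subgroup.zpowers_le.2 (Subgroup.mem_normalizer_fintype fun y hy => by
      obtain ⟨m, rfl⟩ := Subgroup.mem_zpowers_iff.1 hy
      rw [← conj_zpow, hinv, inv_zpow, ← zpow_neg]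
      exact Subgroup.zpow_mem_zpowers _ _))
  obtain ⟨k, hk, e⟩ := CfsgLib.coprime_invariant_sylow_conj hzX hcop (Or.inl hsolv) T S hTz
    (by rw [hS]; exact Subgroup.zpowers_le.2 (t.invariant (left_mem_four _ _)))
  obtain ⟨a, ha, hab⟩ := hbT (Subgroup.mem_zpowers b)
  have hmem : (k : G) * b * (k : G)⁻¹ ∈ invR d g r := by
    rw [← hP, ← hS, ← e]
    exact ⟨_, ⟨a, ha, rfl⟩, by rw [← hab]; rfl⟩
  have h1 := (s.invR_acts hmem).1
  have hkz : (k : G) * d.z = d.z * k := (Subgroup.mem_centralizer_iff.1 hk _ (Subgroup.mem_zpowers _)).symm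
  have h2 : d.z * ((k : G) * b * (k : G)⁻¹) * d.z⁻¹ = (k : G) * b⁻¹ * (k : G)⁻¹ := by
    rw [show d.z * ((k : G) * b * (k : G)⁻¹) * d.z⁻¹ = (d.z * (k : G)) * b * (d.z * (k : G))⁻¹ by group, ← hkz,
      ← hinv]
    group
  have h3 : b = b⁻¹ := mul_left_cancel (mul_right_cancel (h1.symm.trans h2))
  refine eq_one_of_sq_odd ?_ hodd
  nth_rewrite 1 [h3]
  exact inv_mul_cancel b

/-- An `r`-subgroup containing `R` and invariant under `z` lies in `C`. -/
theorem Std.le_C {S : Subgroup G} (hS : IsPGroup r S) (hR : invR d g r ≤ S)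
    (hz : d.z ∈ Subgroup.normalizer (S : Set G)) : S ≤ d.C := by
  haveI := Fact.mk s.prime
  set K := S ⊓ d.C with hK
  by_contra hle
  have hKS : K.subgroupOf S < ⊤ := lt_top_iff_ne_top.2 fun e => hle fun x hx => by
    have : (⟨x, hx⟩ : ↥S) ∈ K.subgroupOf S := e ▸ Subgroup.mem_top _
    exact this.2
  haveI : Group.IsNilpotent ↥S := hS.isNilpotent
  obtain ⟨⟨q, hqS⟩, hqN, hqK⟩ := SetLike.exists_of_lt (Group.normalizerCondition_of_isNilpotent _ hKS)
  have hSodd : Odd (Nat.card S) := by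
    obtain ⟨n, hn⟩ := hS.exists_card_eq
    rw [hn]; exact s.odd_r.pow
  set Q := S ⊓ Subgroup.normalizer (K : Set G) with hQ
  have hzK : d.z ∈ Subgroup.normalizer (K : Set G) := Subgroup.mem_normalizer_fintype fun a ha =>
    ⟨(Subgroup.mem_normalizer_iff.1 hz a).1 ha.1,
      Subgroup.mul_mem _ (Subgroup.mul_mem _ Frame.Spec.z_mem_C ha.2) (Subgroup.inv_mem _ Frame.Spec.z_mem_C)⟩
  have hzQ : d.z ∈ Subgroup.normalizer (Q : Set G) := Subgroup.mem_normalizer_fintype fun a ha =>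
    ⟨(Subgroup.mem_normalizer_iff.1 hz a).1 ha.1,
      Subgroup.mul_mem _ (Subgroup.mul_mem _ hzK ha.2) (Subgroup.inv_mem _ hzK)⟩
  have hqQ : q ∈ Q := ⟨hqS, Subgroup.mem_normalizer_fintype fun a ha =>
    (Subgroup.mem_normalizer_iff.1 hqN ⟨a, ha.1⟩).1 ha⟩
  obtain ⟨a, ha, b, hb, hza, hzb, e⟩ :=
    exists_fixed_mul_inverted (hSodd.of_dvd_nat (Subgroup.card_dvd_of_le inf_le_left)) hzQ s.zz hqQ
  have hbodd : Odd (orderOf b) := hSodd.of_dvd_nat (Subgroup.orderOf_dvd_natCard _ hb.1)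
  have hbR : b ∈ Subgroup.centralizer (invR d g r : Set G) := Subgroup.mem_centralizer_iff.2 fun x hx => by
    have h1 : b * x * b⁻¹ ∈ d.C :=
      ((Subgroup.mem_normalizer_iff.1 hb.2 x).1 (show x ∈ K from ⟨hR hx, s.invR_C hx⟩)).2
    have h2 : Commute (b ^ 2) x := by
      have h4 : d.z * (b * x * b⁻¹) * d.z⁻¹ = b * x * b⁻¹ := by
        rw [← Frame.Spec.z_central h1, mul_inv_cancel_right]
      rw [show d.z * (b * x * b⁻¹) * d.z⁻¹ = (d.z * b * d.z⁻¹) * (d.z * x * d.z⁻¹) * (d.z * b * d.z⁻¹)⁻¹ by group,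
        (s.invR_acts hx).1, hzb] at h4
      show b ^ 2 * x = x * b ^ 2
      rw [pow_two]
      calc b * b * x = b * (b * x * b⁻¹) * b := by group
        _ = b * (b⁻¹ * x * b⁻¹⁻¹) * b := by rw [h4]
        _ = _ := by group
    obtain ⟨j, hj⟩ := hbodd
    have h3 := h2.pow_left (j + 1)
    rw [← pow_mul, show 2 * (j + 1) = orderOf b + 1 by omega, pow_succ, pow_orderOf_eq_one, one_mul] at h3
    exact h3.eq.symm
  obtain ⟨i, hi⟩ := hS ⟨b, hb.1⟩
  have hb1 := s.inverted_trivial hbR ⟨i, by simpa using congrArg Subtype.val hi⟩ hzb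
  refine hqK ?_
  show q ∈ K
  rw [e, hb1, mul_one]
  exact ⟨ha.1, Subgroup.mem_centralizer_singleton_iff.2 (mul_inv_eq_iff_eq_mul.1 hza).symm⟩

/-- `v_r|G| = v_r|C|`. -/
theorem Std.v_eq : padicValNat r (Nat.card G) = padicValNat r (Nat.card d.C) := by
  classical
  haveI := Fact.mk s.prime
  have hRC := s.invR_C
  obtain ⟨S₀, hS₀⟩ := (s.invR_pgroup.comap_of_injective d.C.subtype Subtype.val_injective).exists_le_sylow
  set R' := (S₀ : Subgroup ↥d.C).map d.C.subtype with hR'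
  have hR'C : R' ≤ d.C := Subgroup.map_subtype_le _
  have hRR' : invR d g r ≤ R' := fun x hx => ⟨⟨x, hRC hx⟩, hS₀ hx, rfl⟩
  have hR'p : IsPGroup r R' := S₀.2.map _
  set N := Subgroup.normalizer (R' : Set G) with hN
  set Z := Subgroup.centralizer (R' : Set G) with hZ
  set Y := coreR d g r ⊓ Z with hY
  have hR'N : R' ≤ N := Subgroup.le_normalizer
  have hYN : Y ≤ N := inf_le_right.trans (Subgroup.centralizer_le_normalizer _)
  have hzZ : d.z ∈ Z := Subgroup.mem_centralizer_iff.2 fun x hx => Frame.Spec.z_central (hR'C hx)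
  have hzR := s.normalizer_coreR (Subgroup.centralizer_le_normalizer _ s.z_cent)
  -- `r` does not divide `|Y : C_Y(z)|`
  have hYz : Subgroup.zpowers d.z ≤ Subgroup.normalizer (Y : Set G) := Subgroup.zpowers_le.2
    (Subgroup.mem_normalizer_fintype fun a ha => ⟨(Subgroup.mem_normalizer_iff.1 hzR a).1 ha.1,
      Subgroup.mul_mem _ (Subgroup.mul_mem _ hzZ ha.2) (Subgroup.inv_mem _ hzZ)⟩)
  have hYodd : Odd (Nat.card Y) := s.coreR_odd.of_dvd_nat (Subgroup.card_dvd_of_le inf_le_left)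
  have hidx : ¬ r ∣ d.C.relIndex Y := by
    obtain ⟨T, hT⟩ := CfsgLib.coprime_exists_invariant_sylow hYz (by
        rw [Nat.card_zpowers, s.ctx.spec.zord]
        exact Nat.coprime_two_left.2 hYodd)
      (Or.inl (Group.isSolvable_of_comm fun a b => Subtype.ext (by
        obtain ⟨m, hm⟩ := Subgroup.mem_zpowers_iff.1 a.2
        obtain ⟨n, hn⟩ := Subgroup.mem_zpowers_iff.1 b.2
        show (a : G) * b = b * a
        rw [← hm, ← hn, ← zpow_add, ← zpow_add, add_comm]))) r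
    have hTY : (T : Subgroup ↥Y).map Y.subtype ≤ Y := Subgroup.map_subtype_le _
    have hle : (T : Subgroup ↥Y) ≤ d.C.subgroupOf Y := fun x hx => by
      obtain ⟨a, -, b, hb, hza, hzb, e⟩ := exists_fixed_mul_inverted
        (hYodd.of_dvd_nat (Subgroup.card_dvd_of_le hTY)) (hT (Subgroup.mem_zpowers _)) s.zz
        (Subgroup.mem_map_of_mem _ hx)
      obtain ⟨i, hi⟩ := (T.2.map Y.subtype) ⟨b, hb⟩
      have hb1 := s.inverted_trivial (s.coreR_le (hTY hb).1) ⟨i, by simpa using congrArg Subtype.val hi⟩ hzb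
      show (x : G) ∈ d.C
      rw [show (x : G) = a from e.trans (by rw [hb1, mul_one])]
      exact Subgroup.mem_centralizer_singleton_iff.2 (mul_inv_eq_iff_eq_mul.1 hza).symm
    exact fun h => T.not_dvd_index (h.trans (Subgroup.index_dvd_of_le hle))
  -- `N = Y (N ∩ C)`
  have hprod : ∀ h ∈ N, ∃ b ∈ Y, b⁻¹ * h ∈ d.C := by
    intro h hh
    set v := h * d.z * h⁻¹ with hv
    have hvZ : v ∈ Z := Subgroup.mem_centralizer_iff.2 fun x hx => by
      have h1 : Commute (h⁻¹ * x * h) d.z :=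
        Subgroup.mem_centralizer_iff.1 hzZ _ ((Subgroup.mem_normalizer_iff''.1 hh x).1 hx)
      have h2 := (Commute.conj_iff h).2 h1
      rw [show h * (h⁻¹ * x * h) * h⁻¹ = x by group] at h2
      exact h2.eq
    have hZle : Z ≤ Subgroup.centralizer (invR d g r : Set G) := Subgroup.centralizer_le hRR'
    have hv2 : orderOf v = 2 := (orderOf_cj h d.z).trans s.ctx.spec.zord
    obtain ⟨⟨j, hj⟩, hinv⟩ := odd_mul_of_isolated (H := Z) s.ctx.spec.zord hv2 hzZ hvZ fun t ht ht2 htz =>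
      s.isolated (Subgroup.mem_centralizer_singleton_iff.2 htz) ht2 (hZle ht)
    have hyY : v * d.z ∈ Y :=
      ⟨s.mem_coreR (hZle (mul_mem hvZ hzZ)) ⟨j, hj⟩ hinv, mul_mem hvZ hzZ⟩
    set b := (v * d.z) ^ (j + 1) with hb
    refine ⟨b, pow_mem hyY _, Subgroup.mem_centralizer_singleton_iff.2 ?_⟩
    have hbz : d.z * b⁻¹ * d.z⁻¹ = b := by
      rw [show d.z * b⁻¹ * d.z⁻¹ = (d.z * b * d.z⁻¹)⁻¹ by group, hb, ← conj_pow, hinv, inv_pow, inv_inv]
    have hbb : b * b = v * d.z := by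
      rw [hb, ← pow_add, show j + 1 + (j + 1) = orderOf (v * d.z) + 1 by omega, pow_succ, pow_orderOf_eq_one, one_mul]
    have hbv : b * d.z * b⁻¹ = v := by
      calc b * d.z * b⁻¹ = b * (d.z * b⁻¹ * d.z⁻¹) * d.z := by group
        _ = v := by rw [hbz, hbb, mul_assoc, s.zz, mul_one]
    calc b⁻¹ * h * d.z = b⁻¹ * v * h := by rw [hv]; group
      _ = b⁻¹ * (b * d.z * b⁻¹) * h := by rw [hbv]
      _ = _ := by group
  have hNidx : ¬ r ∣ d.C.relIndex N := by
    have hbij : Function.Surjective (Subgroup.quotientSubgroupOfEmbeddingOfLE d.C hYN) := by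
      intro q
      obtain ⟨⟨h, hh⟩, rfl⟩ := QuotientGroup.mk_surjective q
      obtain ⟨b, hb, hbh⟩ := hprod h hh
      refine ⟨QuotientGroup.mk ⟨b, hb⟩, ?_⟩
      rw [Subgroup.quotientSubgroupOfEmbeddingOfLE_apply_mk]
      exact QuotientGroup.eq.2 hbh
    have e : d.C.relIndex N = d.C.relIndex Y :=
      (Nat.card_congr (Equiv.ofBijective _
        ⟨(Subgroup.quotientSubgroupOfEmbeddingOfLE d.C hYN).injective, hbij⟩)).symm
    rwa [e]
  have hR'idx : ¬ r ∣ R'.relIndex N := by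
    rw [← Subgroup.relIndex_mul_relIndex R' (d.C ⊓ N) N (le_inf hR'C hR'N) inf_le_right, Subgroup.inf_relIndex_right]
    refine fun h => (s.prime.dvd_mul.1 h).elim (fun h1 => S₀.not_dvd_index ?_) hNidx
    have e : R'.relIndex d.C = (S₀ : Subgroup ↥d.C).index := by
      rw [Subgroup.relIndex, hR', Subgroup.subgroupOf, Subgroup.comap_map_eq_self_of_injective Subtype.val_injective]
    rw [← e]
    exact h1.trans (Dvd.intro _ (Subgroup.relIndex_mul_relIndex R' (d.C ⊓ N) d.C (le_inf hR'C hR'N) inf_le_left))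
  -- so `R'` is a Sylow subgroup
  obtain ⟨S, hS⟩ := hR'p.exists_le_sylow
  have hSR : (S : Subgroup G) = R' := by
    refine le_antisymm ?_ hS
    by_contra hle
    haveI : Group.IsNilpotent ↥(S : Subgroup G) := S.2.isNilpotent
    have hlt : R'.subgroupOf S < ⊤ := lt_top_iff_ne_top.2 fun e => hle fun x hx => by
      have : (⟨x, hx⟩ : ↥(S : Subgroup G)) ∈ R'.subgroupOf S := e ▸ Subgroup.mem_top _
      exact this
    obtain ⟨⟨q, hqS⟩, hqN, hqR⟩ := SetLike.exists_of_lt (Group.normalizerCondition_of_isNilpotent _ hlt)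
    set Q := (S : Subgroup G) ⊓ N with hQ
    have hqQ : q ∈ Q := ⟨hqS, Subgroup.mem_normalizer_fintype fun a ha =>
      (Subgroup.mem_normalizer_iff.1 hqN ⟨a, hS ha⟩).1 ha⟩
    have hdvd : R'.relIndex Q ∣ R'.relIndex N :=
      Dvd.intro _ (Subgroup.relIndex_mul_relIndex R' Q N (le_inf hS hR'N) inf_le_right)
    have hne : R'.relIndex Q ≠ 1 := fun e => hqR (Subgroup.relIndex_eq_one.1 e hqQ)
    obtain ⟨n, hn⟩ := (S.2.to_le inf_le_left : IsPGroup r Q).exists_card_eq
    have hdc : R'.relIndex Q ∣ r ^ n := hn ▸ Subgroup.index_dvd_card (R'.subgroupOf Q)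
    obtain ⟨m, -, hm⟩ := (Nat.dvd_prime_pow s.prime).1 hdc
    rcases m with _ | m
    · exact hne (by rw [hm, pow_zero])
    · exact hR'idx ((Dvd.intro_left (r ^ m) (by rw [hm, pow_succ])).trans hdvd)
  have h1 : Nat.card (S : Subgroup G) = r ^ padicValNat r (Nat.card G) := by
    rw [S.card_eq_multiplicity, Nat.factorization_def _ s.prime]
  have h2 : Nat.card (S : Subgroup G) = r ^ padicValNat r (Nat.card d.C) := by
    rw [hSR, hR', Subgroup.card_map_of_injective (Subgroup.subtype_injective _), S₀.card_eq_multiplicity,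
      Nat.factorization_def _ s.prime]
  exact Nat.pow_right_injective s.prime.two_le (h1.symm.trans h2)

omit s
include c

theorem Ctx.le_C_of_invariant [hr : Fact r.Prime] (hdvd : r ∣ Nat.card (invI d (inv2 d g))) {S : Subgroup G}
    (hS : IsPGroup r S) (hR : invR d g r ≤ S) (hz : d.z ∈ Subgroup.normalizer (S : Set G)) : S ≤ d.C := by
  obtain ⟨g₁, e, s⟩ := c.exists_std hr.out hdvd
  exact s.le_C hS (by rw [invR_congr e]; exact hR) hz

/-- **The `r`-part of `|G|`.** -/
theorem Ctx.v_eq [hr : Fact r.Prime] (hdvd : r ∣ Nat.card (invI d (inv2 d g))) :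
    padicValNat r (Nat.card G) = padicValNat r (Nat.card d.C) := by
  obtain ⟨g₁, -, s⟩ := c.exists_std hr.out hdvd
  exact s.v_eq

/-- **The centralisers of the elements of `I`.** -/
theorem Ctx.cent_le {a : G} (ha : a ∈ invI d (inv2 d g)) (ha1 : a ≠ 1) :
    Subgroup.centralizer ({a} : Set G) ≤ d.C := by
  classical
  set l := (orderOf a).minFac with hl
  have hlp : l.Prime := Nat.minFac_prime (fun e => ha1 (orderOf_eq_one_iff.1 e))
  haveI := Fact.mk hlp
  obtain ⟨g₁, e₁, s⟩ := c.exists_std hlp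
    ((Nat.minFac_dvd _).trans (Subgroup.orderOf_dvd_natCard _ ha))
  rw [← e₁] at ha
  clear c
  set a₀ := a ^ (orderOf a / l) with ha₀
  have ha₀o : orderOf a₀ = l := orderOf_pow_orderOf_div (orderOf_pos a).ne' (Nat.minFac_dvd _)
  have ha₀I : a₀ ∈ invI d (inv2 d g₁) := pow_mem ha _
  have ha₀1 : a₀ ≠ 1 := fun e => by rw [e, orderOf_one] at ha₀o; exact hlp.ne_one ha₀o.symm
  have ha₀R : a₀ ∈ invR d g₁ l :=
    s.ctx.mem_invR.2 ⟨ha₀I, 1, by rw [pow_one, ← ha₀o, pow_orderOf_eq_one]⟩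
  set H := Subgroup.centralizer ({a₀} : Set G) with hH
  suffices hmain : H ≤ d.C from fun x hx => hmain (Subgroup.mem_centralizer_singleton_iff.2
    ((show Commute x a from Subgroup.mem_centralizer_singleton_iff.1 hx).pow_right _).eq)
  have hd := s.ctx.spec
  have hq := s.ctx.hq
  have hOH : ∀ i ∈ invI d (inv2 d g₁), i ∈ H := fun i hi =>
    Subgroup.mem_centralizer_singleton_iff.2 (s.ctx.invI_comm hi ha₀I)
  have hzH : d.z ∈ H :=
    Subgroup.mem_centralizer_singleton_iff.2 (mul_inv_eq_iff_eq_mul.1 (s.invR_acts ha₀R).1)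
  set zH : ↥H := ⟨d.z, hzH⟩ with hzHd
  have hiso : IsIsolated zH := fun m hm => by
    refine Subtype.ext ?_
    show (m : G) * d.z * (m : G)⁻¹ = d.z
    refine s.ctx.unique_invol ha₀I ha₀1 (Subgroup.mem_centralizer_singleton_iff.2 (congrArg Subtype.val hm.eq).symm)
      ((orderOf_cj _ _).trans hd.zord) ?_
    exact Subgroup.mem_centralizer_singleton_iff.1 (m * zH * m⁻¹).2
  set X := (oddCore ↥H).map H.subtype with hX
  have hXH : X ≤ H := Subgroup.map_subtype_le _
  have hXodd : Odd (Nat.card X) := by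
    rw [hX, Subgroup.card_map_of_injective (Subgroup.subtype_injective _)]
    exact CfsgLib.odd_card_oddCore
  have hnX : ∀ k : G, k * a₀ * k⁻¹ = a₀ ∨ k * a₀ * k⁻¹ = a₀⁻¹ → k ∈ Subgroup.normalizer (X : Set G) := by
    intro k hk
    refine (CfsgLib.le_normalizer_map_characteristic (A := Subgroup.zpowers k) (K := H) (Subgroup.zpowers_le.2
      (Subgroup.mem_normalizer_fintype fun m hm => Subgroup.mem_centralizer_singleton_iff.2 ?_)) (oddCore ↥H)).1
      (Subgroup.mem_zpowers k)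
    have h1 : Commute (k * m * k⁻¹) (k * a₀ * k⁻¹) :=
      (Commute.conj_iff k).2 (Subgroup.mem_centralizer_singleton_iff.1 hm)
    rcases hk with e | e
    · rw [e] at h1; exact h1.eq
    · rw [e] at h1; exact (Commute.inv_right_iff.1 h1).eq
  -- `X ∩ C ≤ I`
  have hXC : ∀ x ∈ X, x ∈ d.C → x ∈ invI d (inv2 d g₁) := by
    intro x hx hxC
    have hxO : x ∈ d.O := by
      refine hd.odd_le_O hq (Y := X ⊓ d.C) inf_le_right
        (hXodd.of_dvd_nat (Subgroup.card_dvd_of_le inf_le_left)) (fun b hb => ⟨1, one_mem _, ?_⟩) ⟨hx, hxC⟩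
      rw [mul_one]
      exact Subgroup.mem_normalizer_fintype fun y hy =>
        ⟨(Subgroup.mem_normalizer_iff.1 (hnX b (Or.inl (s.fixed_D hb ha₀R))) y).1 hy.1,
          Subgroup.mul_mem _ (Subgroup.mul_mem _ (d.D_le hb) hy.2) (Subgroup.inv_mem _ (d.D_le hb))⟩
    obtain ⟨f, hf, hfu, i, hi, e⟩ := s.ctx.fixed_mul_invI hxO
    by_cases hf1 : f = 1
    · rw [e, hf1, one_mul]; exact hi
    refine absurd (s.ctx.fpf hf hfu hf1 ha₀I ?_) ha₀1
    have h1 : Commute x a₀ := Subgroup.mem_centralizer_singleton_iff.1 (hXH hx)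
    have h2 := h1.mul_left (show Commute i a₀ from s.ctx.invI_comm hi ha₀I).inv_left
    rw [e, mul_inv_cancel_right] at h2
    exact h2.eq
  have hfpf : ∀ x ∈ X, x * d.z = d.z * x → x * inv2 d g₁ = inv2 d g₁ * x → x = 1 := fun x hx hxz hxu => by
    have hI := hXC x hx (Subgroup.mem_centralizer_singleton_iff.2 hxz)
    have h1 := s.ctx.invI_inv hI
    rw [← hxu, mul_inv_cancel_right] at h1
    refine eq_one_of_sq_odd ?_ (s.ctx.invI_odd.of_dvd_nat (Subgroup.orderOf_dvd_natCard _ hI))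
    nth_rewrite 1 [h1]
    exact inv_mul_cancel x
  have hzX : d.z ∈ Subgroup.normalizer (X : Set G) := hnX _ (Or.inl (s.invR_acts ha₀R).1)
  have huX : inv2 d g₁ ∈ Subgroup.normalizer (X : Set G) := hnX _ (Or.inr (s.invR_acts ha₀R).2.1)
  -- `z` inverts `C_X(u)`
  set Yu := X ⊓ Subgroup.centralizer ({inv2 d g₁} : Set G) with hYu
  have hzu' : d.z ∈ Subgroup.centralizer ({inv2 d g₁} : Set G) :=
    Subgroup.mem_centralizer_singleton_iff.2 s.zu_comm
  have hzY : d.z ∈ Subgroup.normalizer (Yu : Set G) := Subgroup.mem_normalizer_fintype fun b hb =>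
    ⟨(Subgroup.mem_normalizer_iff.1 hzX b).1 hb.1,
      Subgroup.mul_mem _ (Subgroup.mul_mem _ hzu' hb.2) (Subgroup.inv_mem _ hzu')⟩
  have hYinv : ∀ x ∈ Yu, d.z * x * d.z⁻¹ = x⁻¹ := fun x hx => by
    obtain ⟨b, hb, b', -, hzb, hzb', e⟩ := exists_fixed_mul_inverted
      (hXodd.of_dvd_nat (Subgroup.card_dvd_of_le inf_le_left)) hzY s.zz hx
    rw [e, hfpf b hb.1 (mul_inv_eq_iff_eq_mul.1 hzb).symm (Subgroup.mem_centralizer_singleton_iff.1 hb.2), one_mul]
    exact hzb'
  obtain ⟨ρ⟩ := hd.exists_rep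
  obtain ⟨g₀, htr, hns, hg₀⟩ := ρ.invol hd hq s.ctx.hyp s.ctx.back_mem s.ctx.back_order s.ctx.back_ne
  have h2 := SL2Orders.two_ne_zero_of_odd hd.odd_card
  have hUR : four d.z (inv2 d g₁) ≤ Subgroup.normalizer (X : Set G) := four_le hzX huX
  -- `C_X(u) = 1`
  have hYu1 : ∀ x ∈ Yu, x = 1 := by
    by_contra hcon
    push Not at hcon
    obtain ⟨x₁, hx₁, hx₁1⟩ := hcon
    set sp := (orderOf x₁).minFac with hsp
    have hspp : sp.Prime := Nat.minFac_prime (fun e => hx₁1 (orderOf_eq_one_iff.1 e))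
    haveI := Fact.mk hspp
    set x := x₁ ^ (orderOf x₁ / sp) with hxd
    have hxo : orderOf x = sp := orderOf_pow_orderOf_div (orderOf_pos x₁).ne' (Nat.minFac_dvd _)
    have hxY : x ∈ Yu := pow_mem hx₁ _
    have hxu := Subgroup.mem_centralizer_singleton_iff.1 hxY.2
    have hxinv := hYinv x hxY
    have hxpow : x ^ sp ^ 1 = 1 := by rw [pow_one, ← hxo, pow_orderOf_eq_one]
    have hx1 : x ≠ 1 := fun e => by rw [e, orderOf_one] at hxo; exact hspp.ne_one hxo.symm
    have hxodd : Odd (orderOf x) := hXodd.of_dvd_nat (Subgroup.orderOf_dvd_natCard _ hxY.1)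
    have hsp2 : sp ≠ 2 := fun e => absurd (e ▸ hxo ▸ hxodd) (by decide)
    have hnu : ∀ b : G, b * inv2 d g₁ * b⁻¹ = inv2 d g₁ → b * x * b⁻¹ ∈ X → b * x * b⁻¹ ∈ Yu := fun b hb hbX => by
      refine ⟨hbX, Subgroup.mem_centralizer_singleton_iff.2 ?_⟩
      have h1 := (Commute.conj_iff b).2 (show Commute x (inv2 d g₁) from hxu)
      rw [hb] at h1
      exact h1.eq
    have hcomm : ∀ t ∈ d.D, t * inv2 d g₁ = inv2 d g₁ * t → Commute x (t * x * t⁻¹) := fun t ht htu => by
      have h1 := hnu t (mul_inv_eq_iff_eq_mul.2 htu)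
        ((Subgroup.mem_normalizer_iff.1 (hnX t (Or.inl (s.fixed_D ht ha₀R))) x).1 hxY.1)
      have h3 := hYinv _ (mul_mem hxY h1)
      rw [show d.z * (x * (t * x * t⁻¹)) * d.z⁻¹ = (d.z * x * d.z⁻¹) * (d.z * (t * x * t⁻¹) * d.z⁻¹) by group,
        hxinv, hYinv _ h1] at h3
      exact Commute.inv_inv_iff.1 (h3.trans (mul_inv_rev x (t * x * t⁻¹)))
    have hUx : four d.z (inv2 d g₁) ≤ Subgroup.normalizer (Subgroup.zpowers x : Set G) := by
      refine four_le ?_ ?_ <;> refine Subgroup.mem_normalizer_fintype fun y hy => ?_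
      · obtain ⟨m, rfl⟩ := Subgroup.mem_zpowers_iff.1 hy
        rw [← conj_zpow, hxinv, inv_zpow, ← zpow_neg]
        exact Subgroup.zpow_mem_zpowers _ _
      · obtain ⟨m, rfl⟩ := Subgroup.mem_zpowers_iff.1 hy
        rw [((show Commute x (inv2 d g₁) from hxu).zpow_left m).symm.eq, mul_inv_cancel_right]
        exact Subgroup.zpow_mem_zpowers _ _
    have hxp : IsPGroup sp (Subgroup.zpowers x) :=
      IsPGroup.of_card (n := 1) (by rw [Nat.card_zpowers, hxo, pow_one])
    -- the first case: the prime divides `|I|`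
    rcases s.ctx.shape hspp hsp2 ρ hns hg₀ hxu hxinv hxpow hcomm with hO | ⟨-, N, A, hN, hNN, hgN, hA, hσ⟩
    · set x' := g₁⁻¹ * x * g₁ with hx'
      have h1 : inv2 d g₁ * x' * (inv2 d g₁)⁻¹ = x'⁻¹ := by
        have h3 : d.z * inv2 d g₁ * x' * (d.z * inv2 d g₁)⁻¹ = x'⁻¹ := by
          rw [← s.back_eq, show g₁⁻¹ * d.z * g₁ * x' * (g₁⁻¹ * d.z * g₁)⁻¹ = g₁⁻¹ * (d.z * x * d.z⁻¹) * g₁ by
            rw [hx']; group, hxinv, hx']
          group
        have e := Frame.Spec.z_central (d.O_le (Frame.Spec.O_conj s.ctx.inv2_mem hO))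
        rwa [show d.z * inv2 d g₁ * x' * (d.z * inv2 d g₁)⁻¹ = d.z * (inv2 d g₁ * x' * (inv2 d g₁)⁻¹) * d.z⁻¹ by
          group, ← e, mul_inv_cancel_right] at h3
      have hx'I : x' ∈ invI d (inv2 d g₁) := s.ctx.mem_invI.2 ⟨hO, h1⟩
      have hdvd : sp ∣ Nat.card (invI d (inv2 d g₁)) := by
        have : orderOf x' = sp := by rw [hx', ← hxo]; simpa using orderOf_cj g₁⁻¹ x
        rw [← this]
        exact Subgroup.orderOf_dvd_natCard _ hx'I
      obtain ⟨g₂, e₂, s'⟩ := s.ctx.exists_std hspp hdvd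
      have hRH : invR d g₁ sp ≤ H := fun y hy => hOH y (s.ctx.mem_invR.1 hy).1
      set W₀ := (invR d g₁ sp).subgroupOf H ⊔ oddCore ↥H with hW₀
      have hWodd : Odd (Nat.card (W₀.map H.subtype)) := by
        rw [Subgroup.card_map_of_injective (Subgroup.subtype_injective _)]
        refine (Odd.mul ?_ CfsgLib.odd_card_oddCore).of_dvd_nat (CfsgLib.card_sup_dvd_mul _ _)
        rw [Nat.card_congr (Subgroup.subgroupOfEquivOfLe hRH).toEquiv]
        exact s.ctx.invI_odd.of_dvd_nat (Subgroup.card_dvd_of_le fun y hy => (s.ctx.mem_invR.1 hy).1)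
      have hWn : four d.z (inv2 d g₁) ≤ Subgroup.normalizer (W₀.map H.subtype : Set G) := by
        have key : ∀ k : G, k ∈ Subgroup.normalizer (X : Set G) → k ∈ d.C →
            k ∈ Subgroup.normalizer (W₀.map H.subtype : Set G) := by
          intro k hkX hkC
          refine Subgroup.mem_normalizer_fintype fun y hy => ?_
          have hle : W₀.map H.subtype ≤ (W₀.map H.subtype).comap (MulAut.conj k).toMonoidHom := by
            rw [hW₀, Subgroup.map_sup]
            refine sup_le ?_ fun b hb => Subgroup.mem_sup_right ((Subgroup.mem_normalizer_iff.1 hkX b).1 hb)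
            rintro _ ⟨b, hb, rfl⟩
            have h3 := s.ctx.invR_conj hkC (show (b : G) ∈ invR d g₁ sp from hb)
            exact Subgroup.mem_sup_left ⟨⟨_, hRH h3⟩, h3, rfl⟩
          exact hle hy
        exact four_le (key _ hzX Frame.Spec.z_mem_C) (key _ huX s.ctx.inv2_mem)
      obtain ⟨S, hSp, hSn, hxS, hRS⟩ := exists_rgroup_pair (r := sp) s.ctx hWodd hWn
        (A := Subgroup.zpowers x) (B := invR d g₁ sp)
        (Subgroup.zpowers_le.2 (by
          rw [hW₀, Subgroup.map_sup]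
          exact Subgroup.mem_sup_right hxY.1)) hxp hUx
        (fun y hy => ⟨⟨y, hRH hy⟩, Subgroup.mem_sup_left hy, rfl⟩)
        (s'.invR_pgroup.to_le (le_of_eq (invR_congr e₂ sp).symm))
        (four_le (s.ctx.invR_normal Frame.Spec.z_mem_C) (s.ctx.invR_normal s.ctx.inv2_mem))
        (fun k hkz _ b hb => s.ctx.invR_conj (Subgroup.mem_centralizer_singleton_iff.2 hkz) hb)
      have hxC : x ∈ d.C := s'.le_C hSp (by rw [invR_congr e₂]; exact hRS) (hSn (left_mem_four _ _))
        (hxS (Subgroup.mem_zpowers x))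
      exact hx1 (hfpf x hxY.1 (Frame.Spec.z_central hxC) hxu)
    · -- the second case: `x` is a root element
      set M := Subgroup.centralizer ({x} : Set G) with hM
      have huM : inv2 d g₁ ∈ M := Subgroup.mem_centralizer_singleton_iff.2 hxu.symm
      have hzM : d.z ∈ Subgroup.normalizer (M : Set G) := Subgroup.mem_normalizer_fintype fun m hm =>
        Subgroup.mem_centralizer_singleton_iff.2 (by
          have h1 := (Commute.conj_iff d.z).2 (show Commute m x from Subgroup.mem_centralizer_singleton_iff.1 hm)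
          rw [hxinv] at h1
          exact (Commute.inv_right_iff.1 h1).eq)
      set x' := g₁⁻¹ * x * g₁ with hx'
      have hx'C : x' ∈ d.C := s.ctx.back_conj_mem hxu
      have hx'inv : g₁⁻¹ * d.z * g₁ * x' * (g₁⁻¹ * d.z * g₁)⁻¹ = x'⁻¹ := by
        rw [show g₁⁻¹ * d.z * g₁ * x' * (g₁⁻¹ * d.z * g₁)⁻¹ = g₁⁻¹ * (d.z * x * d.z⁻¹) * g₁ by rw [hx']; group,
          hxinv, hx']
        group
      have hx'R : ∀ i ∈ invR d g₁ l, Commute x' i := by
        intro i hi
        have hvi : ∀ j ∈ invR d g₁ l, g₁⁻¹ * d.z * g₁ * j * (g₁⁻¹ * d.z * g₁)⁻¹ = j⁻¹ := fun j hj => by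
          rw [s.back_eq]; exact (s.invR_acts hj).2.2
        have h1 : x'⁻¹ * i * x' = x' * i * x'⁻¹ := by
          have hm := hvi _ (s.ctx.invR_conj hx'C (inv_mem hi))
          calc x'⁻¹ * i * x' = x'⁻¹ * i⁻¹⁻¹ * x'⁻¹⁻¹ := by group
            _ = (g₁⁻¹ * d.z * g₁ * x' * (g₁⁻¹ * d.z * g₁)⁻¹) *
                  (g₁⁻¹ * d.z * g₁ * i⁻¹ * (g₁⁻¹ * d.z * g₁)⁻¹) *
                  (g₁⁻¹ * d.z * g₁ * x' * (g₁⁻¹ * d.z * g₁)⁻¹)⁻¹ := by rw [hx'inv, hvi _ (inv_mem hi)]
            _ = g₁⁻¹ * d.z * g₁ * (x' * i⁻¹ * x'⁻¹) * (g₁⁻¹ * d.z * g₁)⁻¹ := by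
                  generalize g₁⁻¹ * d.z * g₁ = v; group
            _ = _ := by rw [hm]; group
        have h3 : Commute (x' ^ 2) i := by
          show x' ^ 2 * i = i * x' ^ 2
          rw [pow_two]
          calc x' * x' * i = x' * (x' * i * x'⁻¹) * x' := by group
            _ = x' * (x'⁻¹ * i * x') * x' := by rw [h1]
            _ = _ := by group
        obtain ⟨j, hj⟩ : Odd (orderOf x') := by
          rw [hx', show orderOf (g₁⁻¹ * x * g₁) = orderOf x by simpa using orderOf_cj g₁⁻¹ x]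
          exact hxodd
        have h4 := h3.pow_left (j + 1)
        rwa [← pow_mul, show 2 * (j + 1) = orderOf x' + 1 by omega, pow_succ, pow_orderOf_eq_one, one_mul] at h4
      have hR1M : Rc d g₁ l g₁ ≤ M := fun y hy => Subgroup.mem_centralizer_singleton_iff.2 (by
        have h1 := (Commute.conj_iff g₁).2 (hx'R _ (mem_Rc.1 hy))
        rw [show g₁ * x' * g₁⁻¹ = x by rw [hx']; group, show g₁ * (g₁⁻¹ * y * g₁) * g₁⁻¹ = y by group] at h1
        exact h1.symm.eq)
      set uu : ↥M := ⟨inv2 d g₁, huM⟩ with huu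
      have huiso : IsIsolated uu := by
        intro m hm
        set v₁ := (m : G) * inv2 d g₁ * (m : G)⁻¹ with hv₁
        have hv₁u : v₁ * inv2 d g₁ = inv2 d g₁ * v₁ := (congrArg Subtype.val hm.eq).symm
        have hv₁x : Commute v₁ x := Subgroup.mem_centralizer_singleton_iff.1 (m * uu * m⁻¹).2
        set v₂ := g₁⁻¹ * v₁ * g₁ with hv₂
        have hv₂C : v₂ ∈ d.C := s.ctx.back_conj_mem hv₁u
        have hv₂o : orderOf v₂ = 2 := by
          rw [hv₂, show orderOf (g₁⁻¹ * v₁ * g₁) = orderOf v₁ by simpa using orderOf_cj g₁⁻¹ v₁, hv₁, orderOf_cj]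
          exact s.ctx.inv2_order
        have hv₂z : v₂ = d.z := by
          by_contra hne
          obtain ⟨g', htr', hns', hg'⟩ := ρ.invol hd hq s.ctx.hyp hv₂C hv₂o hne
          have h1 := ρ.commute_of_comm hd hq s.ctx.hyp hv₂C hx'C (by
            calc g₁⁻¹ * v₁ * g₁ * (g₁⁻¹ * x * g₁) = g₁⁻¹ * (v₁ * x) * g₁ := by group
              _ = g₁⁻¹ * (x * v₁) * g₁ := by rw [hv₁x.eq]
              _ = _ := by rw [hx', hv₂]; group) hg'
            (show ConjBy (ρ.σ ⟨x', hx'C⟩) (Matrix.SpecialLinearGroup.toGL A) by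
              rw [show ρ.σ ⟨x', hx'C⟩ = MulAut.conj A from hσ]; exact conjBy_conj A)
          change Commute g'.1 A.1 at h1
          rw [hA] at h1
          have h3 := h1.sub_right (Commute.one_right g'.1)
          rw [add_sub_cancel_left] at h3
          exact W.no_unipotent_torus h2 htr' hN hNN h3
        refine Subtype.ext ?_
        show v₁ = g₁ * d.z * g₁⁻¹
        rw [← hv₂z, hv₂]
        group
      have haM : a₀ ∈ M := Subgroup.mem_centralizer_singleton_iff.2
        (Subgroup.mem_centralizer_singleton_iff.1 (hXH hxY.1)).symm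
      set W₀ := (Rc d g₁ l g₁).subgroupOf M ⊔ oddCore ↥M with hW₀
      have hWodd : Odd (Nat.card (W₀.map M.subtype)) := by
        rw [Subgroup.card_map_of_injective (Subgroup.subtype_injective _)]
        refine (Odd.mul ?_ CfsgLib.odd_card_oddCore).of_dvd_nat (CfsgLib.card_sup_dvd_mul _ _)
        rw [Nat.card_congr (Subgroup.subgroupOfEquivOfLe hR1M).toEquiv, Rc,
          Subgroup.card_map_of_injective (MulAut.conj g₁).injective]
        exact s.ctx.invI_odd.of_dvd_nat (Subgroup.card_dvd_of_le s.invR_le)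
      have hR1n : ∀ k : G, k * inv2 d g₁ * k⁻¹ = inv2 d g₁ → ∀ b ∈ Rc d g₁ l g₁, k * b * k⁻¹ ∈ Rc d g₁ l g₁ :=
        fun k hk b hb => s.Rc_map hk hb
      have hku : inv2 d g₁ * inv2 d g₁ * (inv2 d g₁)⁻¹ = inv2 d g₁ := mul_inv_cancel_right _ _
      have hkz : d.z * inv2 d g₁ * d.z⁻¹ = inv2 d g₁ := mul_inv_eq_iff_eq_mul.2 s.zu_comm
      have hWn : four d.z (inv2 d g₁) ≤ Subgroup.normalizer (W₀.map M.subtype : Set G) := by
        have key : ∀ k : G, k ∈ Subgroup.normalizer (M : Set G) → k * inv2 d g₁ * k⁻¹ = inv2 d g₁ →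
            k ∈ Subgroup.normalizer (W₀.map M.subtype : Set G) := by
          intro k hkM hk
          refine Subgroup.mem_normalizer_fintype fun y hy => ?_
          have hXk : k ∈ Subgroup.normalizer (((oddCore ↥M).map M.subtype : Subgroup G) : Set G) :=
            (CfsgLib.le_normalizer_map_characteristic (A := Subgroup.zpowers k) (Subgroup.zpowers_le.2 hkM)
              (oddCore ↥M)).1 (Subgroup.mem_zpowers k)
          have hle : W₀.map M.subtype ≤ (W₀.map M.subtype).comap (MulAut.conj k).toMonoidHom := by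
            rw [hW₀, Subgroup.map_sup]
            refine sup_le ?_ fun b hb => Subgroup.mem_sup_right ((Subgroup.mem_normalizer_iff.1 hXk b).1 hb)
            rintro _ ⟨b, hb, rfl⟩
            have h3 := hR1n k hk _ (show (b : G) ∈ Rc d g₁ l g₁ from hb)
            exact Subgroup.mem_sup_left ⟨⟨_, hR1M h3⟩, h3, rfl⟩
          exact hle hy
        exact four_le (key _ hzM hkz) (key _ (Subgroup.le_normalizer huM) hku)
      have haW : a₀ ∈ W₀.map M.subtype := by
        have h1 := CfsgLib.ZStar.commutator_mem (u := uu) (by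
          rw [← Subgroup.orderOf_coe]; exact s.ctx.inv2_order) huiso ⟨a₀, haM⟩
        have h3 := inv_mem h1
        rw [show uu * (⟨a₀, haM⟩ : ↥M) * uu⁻¹ = (⟨a₀, haM⟩ : ↥M)⁻¹ from Subtype.ext (s.invR_acts ha₀R).2.1,
          ← mul_inv_rev, inv_inv, ← pow_two] at h3
        obtain ⟨j, hj⟩ : Odd (orderOf (⟨a₀, haM⟩ : ↥M)) := by
          rw [Subgroup.orderOf_mk]
          exact s.ctx.invI_odd.of_dvd_nat (Subgroup.orderOf_dvd_natCard _ ha₀I)
        have h4 := pow_mem h3 (j + 1)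
        rw [← pow_mul, show 2 * (j + 1) = orderOf (⟨a₀, haM⟩ : ↥M) + 1 by omega, pow_succ, pow_orderOf_eq_one,
          one_mul] at h4
        exact ⟨⟨a₀, haM⟩, Subgroup.mem_sup_right h4, rfl⟩
      obtain ⟨S, hSp, hSn, haS, hRS⟩ := exists_rgroup_pair (r := l) s.ctx hWodd hWn
        (A := Subgroup.zpowers a₀) (B := Rc d g₁ l g₁)
        (Subgroup.zpowers_le.2 haW) (IsPGroup.of_card (n := 1) (by rw [Nat.card_zpowers, ha₀o, pow_one]))
        (by
          refine four_le ?_ ?_ <;> refine Subgroup.mem_normalizer_fintype fun y hy => ?_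
          · obtain ⟨m, rfl⟩ := Subgroup.mem_zpowers_iff.1 hy
            rw [← conj_zpow, (s.invR_acts ha₀R).1]
            exact Subgroup.zpow_mem_zpowers _ _
          · obtain ⟨m, rfl⟩ := Subgroup.mem_zpowers_iff.1 hy
            rw [← conj_zpow, (s.invR_acts ha₀R).2.1, inv_zpow, ← zpow_neg]
            exact Subgroup.zpow_mem_zpowers _ _)
        (fun y hy => ⟨⟨y, hR1M hy⟩, Subgroup.mem_sup_left hy, rfl⟩)
        (s.invR_pgroup.map _)
        (four_le (Subgroup.mem_normalizer_fintype (hR1n _ hkz)) (Subgroup.mem_normalizer_fintype (hR1n _ hku)))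
        (fun k _ hk b hb => hR1n k (mul_inv_eq_iff_eq_mul.2 hk) b hb)
      set S' := S.map (MulAut.conj g₁⁻¹).toMonoidHom with hS'
      have hmemS' : ∀ y ∈ S, g₁⁻¹ * y * g₁ ∈ S' := fun y hy => ⟨y, hy, by simp⟩
      have hS'C : S' ≤ d.C := by
        refine s.le_C (hSp.map _) (fun i hi => ?_) (Subgroup.mem_normalizer_fintype ?_)
        · have h1 := hmemS' _ (hRS (show g₁ * i * g₁⁻¹ ∈ Rc d g₁ l g₁ from mem_Rc.2 (by simpa [mul_assoc] using hi)))
          simpa [mul_assoc] using h1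
        · rintro _ ⟨y, hy, rfl⟩
          have h1 := hmemS' _ ((Subgroup.mem_normalizer_iff.1 (hSn (right_mem_four _ _)) y).1 hy)
          have e : g₁⁻¹ * (inv2 d g₁ * y * (inv2 d g₁)⁻¹) * g₁ = d.z * (g₁⁻¹ * y * g₁) * d.z⁻¹ := by
            show g₁⁻¹ * (g₁ * d.z * g₁⁻¹ * y * (g₁ * d.z * g₁⁻¹)⁻¹) * g₁ = _
            group
          rw [e] at h1
          simpa using h1
      have haC : g₁⁻¹ * a₀ * g₁ ∈ d.C := hS'C (hmemS' _ (haS (Subgroup.mem_zpowers _)))
      have hau : a₀ * inv2 d g₁ = inv2 d g₁ * a₀ := commute_of_conj_mem haC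
      have h5 := s.ctx.invI_inv ha₀I
      rw [← hau, mul_inv_cancel_right] at h5
      refine ha₀1 (eq_one_of_sq_odd ?_ (s.ctx.invI_odd.of_dvd_nat (Subgroup.orderOf_dvd_natCard _ ha₀I)))
      nth_rewrite 1 [h5]
      exact inv_mul_cancel a₀
  -- so `X ≤ C`
  have hXle : X ≤ d.C := by
    obtain ⟨w, hw, e1, -⟩ := s.swap
    haveI : IsMulCommutative ↥(four d.z (inv2 d g₁)) :=
      ⟨⟨fun a b => Subtype.ext (four_comm hd.zord s.ctx.inv2_order s.zu_comm s.ctx.inv2_ne a.2 b.2)⟩⟩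
    have h4 := isKleinFour_four hd.zord s.ctx.inv2_order s.zu_comm s.ctx.inv2_ne
    rw [← CfsgLib.coprime_generated_by_centralizers (A := four d.z (inv2 d g₁)) (K := X)
      (by haveI := h4; exact IsKleinFour.not_isCyclic) hUR (by
        rw [h4.card_four]
        exact Nat.Coprime.pow_left 2 (Nat.coprime_two_left.2 hXodd))]
    refine iSup₂_le fun b hb x hx => ?_
    obtain ⟨hb, hb1⟩ := hb
    have hxb : x * b = b * x := Subgroup.mem_centralizer_singleton_iff.1 hx.2
    rcases (mem_four hd.zord s.ctx.inv2_order s.zu_comm).1 hb with e | e | e | e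
    · exact absurd e hb1
    · exact Subgroup.mem_centralizer_singleton_iff.2 (e ▸ hxb)
    · rw [hYu1 x ⟨hx.1, Subgroup.mem_centralizer_singleton_iff.2 (e ▸ hxb)⟩]; exact one_mem _
    · rw [e] at hxb
      have h1 : w⁻¹ * x * w = 1 := by
        refine hYu1 _ ⟨?_, Subgroup.mem_centralizer_singleton_iff.2 ?_⟩
        · have := (Subgroup.mem_normalizer_iff.1 (hnX w⁻¹ (Or.inl (s.fixed_D (inv_mem hw) ha₀R))) x).1 hx.1
          simpa using this
        · have he : inv2 d g₁ = w⁻¹ * (d.z * inv2 d g₁) * w := by rw [← e1]; group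
          rw [he]
          calc w⁻¹ * x * w * (w⁻¹ * (d.z * inv2 d g₁) * w) = w⁻¹ * (x * (d.z * inv2 d g₁)) * w := by group
            _ = w⁻¹ * (d.z * inv2 d g₁ * x) * w := by rw [hxb]
            _ = _ := by group
      rw [show x = w * (w⁻¹ * x * w) * w⁻¹ by group, h1, mul_one, mul_inv_cancel]
      exact one_mem _
  intro h hh
  set hH' : ↥H := ⟨h, hh⟩
  have hc : d.z * h * d.z⁻¹ * h⁻¹ ∈ X :=
    ⟨zH * hH' * zH⁻¹ * hH'⁻¹,
      CfsgLib.ZStar.commutator_mem (u := zH) (by rw [← Subgroup.orderOf_coe]; exact hd.zord) hiso hH', rfl⟩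
  have h1 : h * d.z * h⁻¹ ∈ d.C := by
    have h3 := mul_mem (Frame.Spec.z_mem_C (d := d)) (hXle hc)
    rwa [show d.z * (d.z * h * d.z⁻¹ * h⁻¹) = (d.z * d.z) * (h * d.z⁻¹ * h⁻¹) by group, s.zz, one_mul,
      invol_inv hd.zord] at h3
  have h3 := hiso hH' (Subtype.ext (Frame.Spec.z_central h1).symm)
  exact Subgroup.mem_centralizer_singleton_iff.2 (mul_inv_eq_iff_eq_mul.1 (congrArg Subtype.val h3))

end CfsgLib.RankTwoModel.L4
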