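import Cfsg.Agent.Lib.RankTwo.TorusFix
import Cfsg.Agent.Lib.SL2Orders
import Cfsg.Agent.Lib.StSL.Presentation

/-!
Two by two matrices around one of trace zero, `g`.

* `inverted_unipotent`: a matrix inverted by `g` which commutes with its conjugate by an element of the torus at `g`
  is scalar times unipotent;
* `no_unipotent_torus`: `g` commutes with no non-trivial unipotent matrix;
* `swap_false`: a matrix anticommuting with `g` does not fix the line of a nilpotent one anticommuting with `g`;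
* `root_full`: a subgroup of `SL₂` normalised by the torus at `g` with such a unipotent element contains the root group;
* `root_generate`: the root group and its conjugate by a matrix anticommuting with `g` generate.

Blueprint: `blueprint/RankTwo_L4W.md`, steps 2 and 4.
-/

set_option autoImplicit false
set_option linter.unusedSectionVars false
set_option linter.style.haveILetI false

namespace CfsgLib.RankTwoModel.L4.W

open Matrix
open scoped MatrixGroups

variable {F : Type} [Field F] [Fintype F]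

local notation "M2" => Matrix (Fin 2) (Fin 2) F
local notation "SL" => Matrix.SpecialLinearGroup (Fin 2) F

theorem nonscalar_of_trace {M : M2} (h2 : (2 : F) ≠ 0) (htr : M.trace = 0) (hM : M ≠ 0) (a : F) :
    M ≠ a • (1 : M2) := by
  intro e
  rw [e, Matrix.trace_smul, Matrix.trace_one, Fintype.card_fin, smul_eq_mul] at htr
  push_cast at htr
  rcases mul_eq_zero.1 htr with ha | h
  · exact hM (by rw [e, ha, zero_smul])
  · exact h2 h

/-- Traceless commutants. -/
theorem traceless_commutant {M M' : M2} (h2 : (2 : F) ≠ 0) (htr : M.trace = 0) (hM : M ≠ 0) (htr' : M'.trace = 0)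
    (hc : Commute M' M) : ∃ b : F, M' = b • M := by
  obtain ⟨a, b, e⟩ := SL2Centralizer.exists_of_commute (nonscalar_of_trace h2 htr hM) hc
  refine ⟨b, ?_⟩
  rw [e, Matrix.trace_add, Matrix.trace_smul, Matrix.trace_smul, Matrix.trace_one, Fintype.card_fin, htr,
    smul_zero, add_zero, smul_eq_mul] at htr'
  push_cast at htr'
  rw [e, (mul_eq_zero.1 htr').resolve_right h2, zero_smul, zero_add]

/-- **Inverted and commuting with a torus conjugate.** -/
theorem inverted_unipotent (h2 : (2 : F) ≠ 0) {g k h : GL (Fin 2) F} (hns : ∀ a : F, g.1 ≠ a • (1 : M2))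
    {a : F} (hinv : g.1 * k.1 * (g⁻¹).1 = a • (k⁻¹).1) (hk2 : ∀ b : F, k.1 * k.1 ≠ b • (1 : M2))
    (hh : Commute h.1 g.1) (hh1 : ∀ b : F, h.1 ≠ b • (1 : M2)) (hh2 : ∀ b : F, h.1 ≠ b • g.1)
    (hkk : Commute k.1 (h.1 * k.1 * (h⁻¹).1)) :
    ∃ (c : F) (N : M2), c ≠ 0 ∧ N ≠ 0 ∧ N * N = 0 ∧ g.1 * N = -(N * g.1) ∧ k.1 = c • (1 + N) := by
  set τ := k.1.trace with hτ
  set δ := k.1.det with hδ
  have hδ0 : δ ≠ 0 := GW.Model.det_ne k
  have hCH : k.1 * k.1 = τ • k.1 - δ • (1 : M2) := by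
    ext i j
    fin_cases i <;> fin_cases j <;>
      simp [hτ, hδ, Matrix.mul_apply, Fin.sum_univ_two, Matrix.trace_fin_two, Matrix.det_fin_two] <;> ring
  have hkinv : (k⁻¹).1 = δ⁻¹ • (τ • (1 : M2) - k.1) := by
    have h1 : k.1 * (δ⁻¹ • (τ • (1 : M2) - k.1)) = 1 := by
      rw [Matrix.mul_smul, Matrix.mul_sub, Matrix.mul_smul, Matrix.mul_one, hCH, sub_sub_cancel, smul_smul,
        inv_mul_cancel₀ hδ0, one_smul]
    calc (k⁻¹).1 = (k⁻¹).1 * (k.1 * (δ⁻¹ • (τ • (1 : M2) - k.1))) := by rw [h1, Matrix.mul_one]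
      _ = _ := by rw [← Matrix.mul_assoc, ← Units.val_mul, inv_mul_cancel, Units.val_one, Matrix.one_mul]
  have hτ0 : τ ≠ 0 := fun e => hk2 (-δ) (by rw [hCH, e, zero_smul, zero_sub, neg_smul])
  rw [hkinv, smul_smul] at hinv
  set b := a * δ⁻¹ with hb
  have hb1 : b = 1 := by
    have h1 := congrArg Matrix.trace hinv
    rw [Matrix.trace_mul_cycle, ← Units.val_mul, inv_mul_cancel, Units.val_one, Matrix.one_mul, Matrix.trace_smul,
      Matrix.trace_sub, Matrix.trace_smul, Matrix.trace_one, Fintype.card_fin, ← hτ, smul_eq_mul, smul_eq_mul] at h1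
    push_cast at h1
    exact mul_right_cancel₀ hτ0 (by linear_combination -h1)
  rw [hb1, one_smul] at hinv
  set M : M2 := k.1 - (τ / 2) • (1 : M2) with hM
  have hMtr : M.trace = 0 := by
    rw [hM, Matrix.trace_sub, Matrix.trace_smul, Matrix.trace_one, Fintype.card_fin, ← hτ, smul_eq_mul]
    push_cast
    field_simp
    ring
  have hM0 : M ≠ 0 := fun e => hk2 ((τ / 2) * (τ / 2)) (by
    have : k.1 = (τ / 2) • (1 : M2) := sub_eq_zero.1 e
    rw [this, Matrix.smul_mul, Matrix.one_mul, smul_smul])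
  have hgM : g.1 * M = -(M * g.1) := by
    have h1 : g.1 * M * (g⁻¹).1 = -M := by
      rw [hM, Matrix.mul_sub, Matrix.sub_mul, hinv, Matrix.mul_smul, Matrix.mul_one, Matrix.smul_mul,
        ← Units.val_mul, mul_inv_cancel, Units.val_one]
      ext i j
      simp only [Matrix.sub_apply, Matrix.neg_apply, Matrix.smul_apply, smul_eq_mul]
      field_simp
      ring
    calc g.1 * M = g.1 * M * (g⁻¹).1 * g.1 := by
          rw [Matrix.mul_assoc _ (g⁻¹).1, ← Units.val_mul, inv_mul_cancel, Units.val_one, Matrix.mul_one]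
      _ = -(M * g.1) := by rw [h1, Matrix.neg_mul]
  obtain ⟨x, y, hxy⟩ := SL2Centralizer.exists_of_commute hns hh
  have hx : x ≠ 0 := fun e => hh2 y (by rw [hxy, e, zero_smul, zero_add])
  have hy : y ≠ 0 := fun e => hh1 x (by rw [hxy, e, zero_smul, add_zero])
  obtain ⟨β, hβ⟩ : ∃ β : F, h.1 * M * (h⁻¹).1 = β • M := by
    refine traceless_commutant h2 hMtr hM0 ?_ ?_
    · rw [Matrix.trace_mul_cycle, ← Units.val_mul, inv_mul_cancel, Units.val_one, Matrix.one_mul, hMtr]
    · have e : h.1 * k.1 * (h⁻¹).1 = h.1 * M * (h⁻¹).1 + (τ / 2) • (1 : M2) := by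
        rw [hM, Matrix.mul_sub, Matrix.sub_mul, Matrix.mul_smul, Matrix.mul_one, Matrix.smul_mul,
          ← Units.val_mul h h⁻¹, mul_inv_cancel, Units.val_one, sub_add_cancel]
      have h3 : Commute (M + (τ / 2) • (1 : M2)) (h.1 * M * (h⁻¹).1 + (τ / 2) • (1 : M2)) := by
        rw [← e, hM, sub_add_cancel]; exact hkk
      have h4 : Commute M (h.1 * M * (h⁻¹).1 + (τ / 2) • (1 : M2)) := by
        have := h3.sub_left ((Commute.one_left _).smul_left (τ / 2))
        rwa [add_sub_cancel_right] at this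
      have h5 := h4.sub_right ((Commute.one_right M).smul_right (τ / 2))
      rw [add_sub_cancel_right] at h5
      exact h5.symm
  have hMh : h.1 * M = β • (M * h.1) := by
    calc h.1 * M = h.1 * M * (h⁻¹).1 * h.1 := by
          rw [Matrix.mul_assoc _ (h⁻¹).1, ← Units.val_mul, inv_mul_cancel, Units.val_one, Matrix.mul_one]
      _ = β • (M * h.1) := by rw [hβ, Matrix.smul_mul]
  have hkey : M * (((1 - β) * x) • (1 : M2) - ((1 + β) * y) • g.1) = 0 := by
    have h1 : h.1 * M = x • M - y • (M * g.1) := by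
      rw [hxy, Matrix.add_mul, Matrix.smul_mul, Matrix.smul_mul, Matrix.one_mul, hgM, smul_neg, ← sub_eq_add_neg]
    have h6 : M * h.1 = x • M + y • (M * g.1) := by
      rw [hxy, Matrix.mul_add, Matrix.mul_smul, Matrix.mul_smul, Matrix.mul_one]
    rw [h1, h6] at hMh
    rw [Matrix.mul_sub, Matrix.mul_smul, Matrix.mul_smul, Matrix.mul_one]
    ext i j
    have e := congrFun (congrFun hMh i) j
    simp only [Matrix.sub_apply, Matrix.add_apply, Matrix.smul_apply, smul_eq_mul, Matrix.zero_apply] at e ⊢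
    linear_combination e
  have hMM : M * M = (-M.det) • (1 : M2) := by
    have h11 : M 1 1 = -M 0 0 := by rw [Matrix.trace_fin_two] at hMtr; linear_combination hMtr
    ext i j
    fin_cases i <;> fin_cases j <;> simp [Matrix.mul_apply, Fin.sum_univ_two, Matrix.det_fin_two, h11] <;> ring
  have hdet : M.det = 0 := by
    by_contra hd
    have h1 := congrArg (fun X => M * X) hkey
    simp only [← Matrix.mul_assoc, hMM, Matrix.mul_zero, Matrix.smul_mul, Matrix.one_mul] at h1
    have h3 := (smul_eq_zero.1 h1).resolve_left (neg_ne_zero.2 hd)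
    rw [sub_eq_zero] at h3
    by_cases hc : (1 + β) * y = 0
    · rw [hc, zero_smul] at h3
      have h4 := (smul_eq_zero.1 h3).resolve_right one_ne_zero
      have h5 : (1 - β) = 0 := (mul_eq_zero.1 h4).resolve_right hx
      have h6 : (1 + β) = 0 := (mul_eq_zero.1 hc).resolve_right hy
      exact h2 (by linear_combination h5 + h6)
    · refine hns ((1 - β) * x / ((1 + β) * y)) ?_
      rw [div_eq_inv_mul, ← smul_smul, h3, smul_smul, inv_mul_cancel₀ hc, one_smul]
  refine ⟨τ / 2, (2 / τ) • M, div_ne_zero hτ0 h2, ?_, ?_, ?_, ?_⟩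
  · exact smul_ne_zero (div_ne_zero h2 hτ0) hM0
  · rw [Matrix.smul_mul, Matrix.mul_smul, hMM, hdet, neg_zero, zero_smul, smul_zero, smul_zero]
  · rw [Matrix.mul_smul, hgM, Matrix.smul_mul, smul_neg]
  · rw [smul_add, smul_smul, show τ / 2 * (2 / τ) = 1 by field_simp, one_smul, hM, add_sub_cancel]

/-- Coordinates adapted to a nilpotent matrix and a matrix of trace zero anticommuting with it. -/
theorem exists_coords (h2 : (2 : F) ≠ 0) {g : GL (Fin 2) F} {N : M2} (hN : N ≠ 0) (hNN : N * N = 0)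
    (hgN : g.1 * N = -(N * g.1)) :
    ∃ (P : GL (Fin 2) F) (ρ : F), ρ ≠ 0 ∧ (P⁻¹).1 * N * P.1 = !![0, 0; 1, 0] ∧
      (P⁻¹).1 * g.1 * P.1 = !![ρ, 0; 0, -ρ] := by
  have hdet : N.det = 0 := by
    have := congrArg Matrix.det hNN
    rw [Matrix.det_mul, Matrix.det_zero] at this
    exact mul_self_eq_zero.1 this
  have htr : N.trace = 0 := by
    have hCH : N * N = N.trace • N - N.det • (1 : M2) := by
      ext i j
      fin_cases i <;> fin_cases j <;>
        simp [Matrix.mul_apply, Fin.sum_univ_two, Matrix.trace_fin_two, Matrix.det_fin_two] <;> ring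
    rw [hNN, hdet, zero_smul, sub_zero] at hCH
    exact (smul_eq_zero.1 hCH.symm).resolve_right hN
  obtain ⟨P, hP⟩ := GL2Classes.exists_conj_comp (M := N) fun a e => by
    rw [e, Matrix.smul_mul, Matrix.one_mul, smul_smul] at hNN
    have := (smul_eq_zero.1 hNN).resolve_right one_ne_zero
    exact hN (by rw [e, mul_self_eq_zero.1 this, zero_smul])
  have hPN : (P⁻¹).1 * N * P.1 = !![0, 0; 1, 0] := by
    rw [Matrix.mul_assoc, hP, ← Matrix.mul_assoc, ← Units.val_mul, inv_mul_cancel, Units.val_one, Matrix.one_mul,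
      htr, hdet, GL2Classes.comp, neg_zero]
  set g' := (P⁻¹).1 * g.1 * P.1 with hg'
  have hanti : g' * !![(0 : F), 0; 1, 0] = -(!![(0 : F), 0; 1, 0] * g') := by
    rw [← hPN, hg']
    simp only [Matrix.mul_assoc, Units.mul_inv_cancel_left]
    rw [← Matrix.mul_assoc g.1 N, hgN, Matrix.neg_mul, Matrix.mul_neg, Matrix.mul_assoc N g.1]
  rw [Matrix.eta_fin_two g', Matrix.mul_fin_two, Matrix.mul_fin_two] at hanti
  have e00 := congrFun (congrFun hanti 0) 0
  have e10 := congrFun (congrFun hanti 1) 0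
  simp at e00 e10
  have hρ : g' 0 0 ≠ 0 := fun e => by
    have hd : g'.det = 0 := by rw [Matrix.det_fin_two, e, e00, zero_mul, zero_mul, sub_zero]
    rw [hg', Matrix.det_mul, Matrix.det_mul] at hd
    exact mul_ne_zero (mul_ne_zero (GW.Model.det_ne P⁻¹) (GW.Model.det_ne g)) (GW.Model.det_ne P) hd
  set t := g' 1 0 / (2 * g' 0 0) with ht
  let T : GL (Fin 2) F := ⟨!![1, 0; t, 1], !![1, 0; -t, 1],
    by ext i j; fin_cases i <;> fin_cases j <;> simp [Matrix.mul_apply, Fin.sum_univ_two],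
    by ext i j; fin_cases i <;> fin_cases j <;> simp [Matrix.mul_apply, Fin.sum_univ_two]⟩
  refine ⟨P * T, g' 0 0, hρ, ?_, ?_⟩
  · rw [_root_.mul_inv_rev, Units.val_mul, Units.val_mul,
      show (T⁻¹).1 * (P⁻¹).1 * N * (P.1 * T.1) = (T⁻¹).1 * ((P⁻¹).1 * N * P.1) * T.1 by simp [Matrix.mul_assoc],
      hPN]
    ext i j
    fin_cases i <;> fin_cases j <;> simp [T, Matrix.mul_apply, Fin.sum_univ_two]
  · rw [_root_.mul_inv_rev, Units.val_mul, Units.val_mul,
      show (T⁻¹).1 * (P⁻¹).1 * g.1 * (P.1 * T.1) = (T⁻¹).1 * g' * T.1 by simp [hg', Matrix.mul_assoc]]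
    rw [show (T⁻¹).1 = !![1, 0; -t, 1] from rfl, show T.1 = !![1, 0; t, 1] from rfl, Matrix.eta_fin_two g',
      Matrix.mul_fin_two, Matrix.mul_fin_two, e00]
    ext i j
    fin_cases i <;> fin_cases j <;> simp [ht, e10]
    · field_simp
      ring

theorem conj_val (P : GL (Fin 2) F) (X Y : M2) :
    (P⁻¹).1 * (X * Y) * P.1 = ((P⁻¹).1 * X * P.1) * ((P⁻¹).1 * Y * P.1) := by
  simp [Matrix.mul_assoc]

/-- The trace zero matrix commutes with no unipotent matrix. -/
theorem no_unipotent_torus (h2 : (2 : F) ≠ 0) {g : GL (Fin 2) F} (htr : g.1.trace = 0) {N : M2} (hN : N ≠ 0)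
    (hNN : N * N = 0) (hc : Commute g.1 N) : False := by
  have hntr : N.trace = 0 := by
    have hdet : N.det = 0 := by
      have := congrArg Matrix.det hNN
      rw [Matrix.det_mul, Matrix.det_zero] at this
      exact mul_self_eq_zero.1 this
    have hCH : N * N = N.trace • N - N.det • (1 : M2) := by
      ext i j
      fin_cases i <;> fin_cases j <;>
        simp [Matrix.mul_apply, Fin.sum_univ_two, Matrix.trace_fin_two, Matrix.det_fin_two] <;> ring
    rw [hNN, hdet, zero_smul, sub_zero] at hCH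
    exact (smul_eq_zero.1 hCH.symm).resolve_right hN
  obtain ⟨b, hb⟩ := traceless_commutant h2 hntr hN htr hc
  have := congrArg (fun X => X * X) hb
  simp only [Matrix.smul_mul, Matrix.mul_smul, hNN, smul_zero] at this
  have hd := congrArg Matrix.det this
  rw [Matrix.det_mul, Matrix.det_zero] at hd
  exact GW.Model.det_ne g (mul_self_eq_zero.1 hd)

/-- An anticommuting matrix swaps the two eigenlines. -/
theorem swap_false (h2 : (2 : F) ≠ 0) {g : GL (Fin 2) F} {N : M2} (hN : N ≠ 0) (hNN : N * N = 0)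
    (hgN : g.1 * N = -(N * g.1)) {W : GL (Fin 2) F} (hW : g.1 * W.1 = -(W.1 * g.1))
    (hc : Commute N (W.1 * N * (W⁻¹).1)) : False := by
  obtain ⟨P, ρ, hρ, hPN, hPg⟩ := exists_coords h2 hN hNN hgN
  set W' := (P⁻¹).1 * W.1 * P.1
  set V' := (P⁻¹).1 * (W⁻¹).1 * P.1
  have hWV : W' * V' = 1 := by
    rw [← conj_val, ← Units.val_mul, mul_inv_cancel, Units.val_one, Matrix.mul_one, ← Units.val_mul, inv_mul_cancel,
      Units.val_one]
  have hanti : !![ρ, 0; 0, -ρ] * W' = -(W' * !![ρ, 0; 0, -ρ]) := by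
    rw [← hPg, ← conj_val, hW, Matrix.mul_neg, Matrix.neg_mul, conj_val]
  have a00 := congrFun (congrFun hanti 0) 0
  have a11 := congrFun (congrFun hanti 1) 1
  simp [Matrix.mul_apply, Fin.sum_univ_two] at a00 a11
  have hW00 : W' 0 0 = 0 := (mul_eq_zero.1 (show (2 * ρ) * W' 0 0 = 0 by linear_combination a00)).resolve_left
    (mul_ne_zero h2 hρ)
  have hW11 : W' 1 1 = 0 := (mul_eq_zero.1 (show (2 * ρ) * W' 1 1 = 0 by linear_combination -a11)).resolve_left
    (mul_ne_zero h2 hρ)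
  have v00 := congrFun (congrFun hWV 0) 0
  have v11 := congrFun (congrFun hWV 1) 1
  simp [Matrix.mul_apply, Fin.sum_univ_two, hW00, hW11] at v00 v11
  have hcomm : !![(0 : F), 0; 1, 0] * (W' * !![(0 : F), 0; 1, 0] * V') =
      W' * !![(0 : F), 0; 1, 0] * V' * !![(0 : F), 0; 1, 0] := by
    rw [← hPN, ← conj_val, ← conj_val, ← conj_val, ← conj_val, hc.eq]
  have e := congrFun (congrFun hcomm 0) 0
  simp [Matrix.mul_apply, Fin.sum_univ_two, hW00] at e
  have h01 : W' 0 1 * V' 1 0 = 1 := by linear_combination v00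
  have h10 : W' 1 0 * V' 0 1 = 1 := by linear_combination v11
  rcases e with e | e
  · rw [e, zero_mul] at h01; exact zero_ne_one h01
  · rw [e, mul_zero] at h10; exact zero_ne_one h10

/-- **The root group.** -/
theorem root_full (h2 : (2 : F) ≠ 0) (hq : 3 < Fintype.card F) {g : GL (Fin 2) F} {N : M2} (hN : N ≠ 0)
    (hNN : N * N = 0) (hgN : g.1 * N = -(N * g.1)) {H : Subgroup SL}
    (hH : ∀ A : SL, Commute A.1 g.1 → ∀ U ∈ H, (∃ x : F, U.1 = 1 + x • N) → A * U * A⁻¹ ∈ H)
    {U₀ : SL} (hU₀ : U₀.1 = 1 + N) (hmem : ∀ A : SL, Commute A.1 g.1 → A * U₀ * A⁻¹ * U₀⁻¹ ∈ H) (x : F) :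
    ∃ U : SL, U.1 = 1 + x • N ∧ U ∈ H := by
  obtain ⟨P, ρ, hρ, hPN, hPg⟩ := exists_coords h2 hN hNN hgN
  have hback : ∀ y : F, P.1 * !![1, 0; y, 1] * (P⁻¹).1 = 1 + y • N := fun y => by
    have e : (!![1, 0; y, 1] : M2) = (P⁻¹).1 * (1 + y • N) * P.1 := by
      rw [Matrix.mul_add, Matrix.add_mul, Matrix.mul_smul, Matrix.smul_mul, hPN, Matrix.mul_one, ← Units.val_mul,
        inv_mul_cancel, Units.val_one]
      ext i j; fin_cases i <;> fin_cases j <;> simp
    rw [e]
    simp [Matrix.mul_assoc]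
  let U : F → SL := fun y => ⟨1 + y • N, by
    rw [← hback, Matrix.det_mul, Matrix.det_mul, mul_right_comm, ← Matrix.det_mul, ← Units.val_mul, mul_inv_cancel,
      Units.val_one, Matrix.det_one, one_mul, Matrix.det_fin_two_of]; ring⟩
  have hUadd : ∀ y z, U y * U z = U (y + z) := fun y z => Subtype.ext (by
    show (1 + y • N) * (1 + z • N) = 1 + (y + z) • N
    rw [Matrix.mul_add, Matrix.add_mul, Matrix.add_mul, Matrix.one_mul, Matrix.one_mul, Matrix.mul_one,
      Matrix.smul_mul, Matrix.mul_smul, hNN, smul_zero, smul_zero, add_zero, add_smul, add_assoc])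
  have hUneg : ∀ y, (U y)⁻¹ = U (-y) := fun y => inv_eq_of_mul_eq_one_right (by
    rw [hUadd, add_neg_cancel]; exact Subtype.ext (by show 1 + (0 : F) • N = 1; rw [zero_smul, add_zero]))
  -- the torus
  have hA : ∀ a : Fˣ, ∃ A : SL, Commute A.1 g.1 ∧ ∀ y, A * U y * A⁻¹ = U ((a : F)⁻¹ * (a : F)⁻¹ * y) := fun a => by
    let A : SL := ⟨P.1 * !![(a : F), 0; 0, (a : F)⁻¹] * (P⁻¹).1, by
      rw [Matrix.det_mul, Matrix.det_mul, mul_right_comm, ← Matrix.det_mul, ← Units.val_mul, mul_inv_cancel,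
        Units.val_one, Matrix.det_one, one_mul, Matrix.det_fin_two_of, mul_inv_cancel₀ a.ne_zero, mul_zero, sub_zero]⟩
    refine ⟨A, ?_, fun y => mul_inv_eq_iff_eq_mul.2 (Subtype.ext ?_)⟩
    · have hg : g.1 = P.1 * !![ρ, 0; 0, -ρ] * (P⁻¹).1 := by rw [← hPg]; simp [Matrix.mul_assoc]
      show P.1 * !![(a : F), 0; 0, (a : F)⁻¹] * (P⁻¹).1 * g.1 = g.1 * (P.1 * !![(a : F), 0; 0, (a : F)⁻¹] * (P⁻¹).1)
      rw [hg]
      simp only [Matrix.mul_assoc, Units.inv_mul_cancel_left]
      congr 1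
      rw [← Matrix.mul_assoc, ← Matrix.mul_assoc]
      congr 1
      ext i j; fin_cases i <;> fin_cases j <;> simp [Matrix.mul_apply, Fin.sum_univ_two, mul_comm]
    · show P.1 * !![(a : F), 0; 0, (a : F)⁻¹] * (P⁻¹).1 * (1 + y • N) =
        (1 + ((a : F)⁻¹ * (a : F)⁻¹ * y) • N) * (P.1 * !![(a : F), 0; 0, (a : F)⁻¹] * (P⁻¹).1)
      rw [← hback, ← hback]
      simp only [Matrix.mul_assoc, Units.inv_mul_cancel_left]
      congr 1
      rw [← Matrix.mul_assoc, ← Matrix.mul_assoc]
      congr 1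
      have ha := a.ne_zero
      ext i j; fin_cases i <;> fin_cases j <;> simp [Matrix.mul_apply, Fin.sum_univ_two]
      field_simp
  have hU1 : U₀ = U 1 := Subtype.ext (by rw [hU₀]; show 1 + N = 1 + (1 : F) • N; rw [one_smul])
  -- some non-trivial element
  obtain ⟨a, ha⟩ : ∃ a : Fˣ, (a : F)⁻¹ * (a : F)⁻¹ ≠ 1 := by
    by_contra hc
    push Not at hc
    classical
    have hsub : (Finset.univ : Finset F) ⊆ {0, 1, -1} := fun y _ => by
      by_cases hy : y = 0
      · simp [hy]
      · have h1 := hc (Units.mk0 y hy)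
        rw [Units.val_mk0, ← mul_inv, inv_eq_one] at h1
        rcases mul_self_eq_one_iff.1 h1 with e | e <;> simp [e]
    have h3 := (Finset.card_le_card hsub).trans Finset.card_le_three
    rw [Finset.card_univ] at h3
    omega
  set y₀ := (a : F)⁻¹ * (a : F)⁻¹ - 1 with hy₀
  have hy₀0 : y₀ ≠ 0 := sub_ne_zero.2 ha
  have hy₀H : U y₀ ∈ H := by
    obtain ⟨A, hAc, hAU⟩ := hA a
    have := hmem A hAc
    rwa [hU1, hAU, mul_one, hUneg, hUadd, ← sub_eq_add_neg] at this
  -- the parameters form an additive subgroup closed under squares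
  have hsq : ∀ (b : Fˣ) (y : F), U y ∈ H → U ((b : F)⁻¹ * (b : F)⁻¹ * y) ∈ H := fun b y hy => by
    obtain ⟨A, hAc, hAU⟩ := hA b
    have h1 := hH A hAc (U y) hy ⟨y, rfl⟩
    rwa [hAU] at h1
  have hsq' : ∀ s : F, U (s * s * y₀) ∈ H := fun s => by
    by_cases hs : s = 0
    · rw [hs, mul_zero, zero_mul]
      exact (show U 0 = 1 from Subtype.ext (by show 1 + (0 : F) • N = 1; rw [zero_smul, add_zero])) ▸ one_mem H
    · have := hsq (Units.mk0 s⁻¹ (inv_ne_zero hs)) y₀ hy₀H
      rwa [Units.val_mk0, inv_inv] at this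
  have hodd : Fintype.card F % 2 = 1 := Nat.odd_iff.1 (Nat.not_even_iff_odd.1 fun he => h2 (by
    have := (FiniteField.even_card_iff_char_two (F := F)).2 (Nat.even_iff.1 he)
    haveI : CharP F 2 := ringChar.of_eq this
    exact CharTwo.two_eq_zero))
  obtain ⟨s, t, hst⟩ := FiniteField.exists_root_sum_quadratic
    (f := Polynomial.X ^ 2) (g := Polynomial.X ^ 2 - Polynomial.C (x / y₀))
    (Polynomial.degree_X_pow 2) (Polynomial.degree_X_pow_sub_C two_pos _) hodd
  simp only [Polynomial.eval_pow, Polynomial.eval_X, Polynomial.eval_sub, Polynomial.eval_C] at hst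
  refine ⟨U x, rfl, ?_⟩
  have hmul := mul_mem (hsq' s) (hsq' t)
  rwa [hUadd, show s * s * y₀ + t * t * y₀ = x by field_simp at hst; linear_combination hst] at hmul

/-- **Generation.** -/
theorem root_generate (h2 : (2 : F) ≠ 0) {g : GL (Fin 2) F} {N : M2} (hN : N ≠ 0)
    (hNN : N * N = 0) (hgN : g.1 * N = -(N * g.1)) {W : SL} (hW : g.1 * W.1 = -(W.1 * g.1)) {H : Subgroup SL}
    (hx : ∀ x : F, ∃ U : SL, U.1 = 1 + x • N ∧ U ∈ H ∧ W * U * W⁻¹ ∈ H) : H = ⊤ := by
  obtain ⟨P, ρ, hρ, hPN, hPg⟩ := exists_coords h2 hN hNN hgN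
  let φ : SL →* SL :=
    { toFun := fun A => ⟨P.1 * A.1 * (P⁻¹).1, by
        rw [Matrix.det_mul, Matrix.det_mul, mul_right_comm, ← Matrix.det_mul, ← Units.val_mul, mul_inv_cancel,
          Units.val_one, Matrix.det_one, one_mul, A.2]⟩
      map_one' := Subtype.ext (by
        show P.1 * 1 * (P⁻¹).1 = 1
        rw [Matrix.mul_one, ← Units.val_mul, mul_inv_cancel, Units.val_one])
      map_mul' := fun A B => Subtype.ext (by
        show P.1 * (A.1 * B.1) * (P⁻¹).1 = P.1 * A.1 * (P⁻¹).1 * (P.1 * B.1 * (P⁻¹).1)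
        simp [Matrix.mul_assoc]) }
  have hv : ∀ x : F, PSL2.vSL x ∈ H.comap φ := fun x => by
    obtain ⟨U, hU, hUH, -⟩ := hx x
    rw [Subgroup.mem_comap]
    have e : φ (PSL2.vSL x) = U := Subtype.ext (by
      show P.1 * (PSL2.vSL x).1 * (P⁻¹).1 = U.1
      have h1 : (PSL2.vSL x).1 = (P⁻¹).1 * U.1 * P.1 := by
        rw [hU, Matrix.mul_add, Matrix.add_mul, Matrix.mul_smul, Matrix.smul_mul, hPN, Matrix.mul_one,
          ← Units.val_mul, inv_mul_cancel, Units.val_one, PSL2.coe_vSL]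
        ext i j; fin_cases i <;> fin_cases j <;> simp
      rw [h1]; simp [Matrix.mul_assoc])
    rwa [e]
  set W' := (P⁻¹).1 * W.1 * P.1
  have hanti : !![ρ, 0; 0, -ρ] * W' = -(W' * !![ρ, 0; 0, -ρ]) := by
    rw [← hPg, ← conj_val, hW, Matrix.mul_neg, Matrix.neg_mul, conj_val]
  have a00 := congrFun (congrFun hanti 0) 0
  have a11 := congrFun (congrFun hanti 1) 1
  simp [Matrix.mul_apply, Fin.sum_univ_two] at a00 a11
  have hW00 : W' 0 0 = 0 := (mul_eq_zero.1 (show (2 * ρ) * W' 0 0 = 0 by linear_combination a00)).resolve_left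
    (mul_ne_zero h2 hρ)
  have hW11 : W' 1 1 = 0 := (mul_eq_zero.1 (show (2 * ρ) * W' 1 1 = 0 by linear_combination -a11)).resolve_left
    (mul_ne_zero h2 hρ)
  have hWd : W' 0 1 * W' 1 0 = -1 := by
    have hd : W'.det = 1 := by
      rw [Matrix.det_mul, Matrix.det_mul, mul_right_comm, ← Matrix.det_mul, ← Units.val_mul, inv_mul_cancel,
        Units.val_one, Matrix.det_one, one_mul, W.2]
    rw [Matrix.det_fin_two, hW00, hW11] at hd
    linear_combination -hd
  have hu : ∀ y : F, PSL2.uSL y ∈ H.comap φ := fun y => by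
    obtain ⟨U, hU, -, hUW⟩ := hx (-(y * (W' 1 0 * W' 1 0)))
    rw [Subgroup.mem_comap]
    have e : φ (PSL2.uSL y) = W * U * W⁻¹ := eq_mul_inv_of_mul_eq (Subtype.ext (by
      show P.1 * (PSL2.uSL y).1 * (P⁻¹).1 * W.1 = W.1 * U.1
      have h1 : (PSL2.uSL y).1 * W' = W' * ((P⁻¹).1 * U.1 * P.1) := by
        rw [hU, Matrix.mul_add (P⁻¹).1, Matrix.add_mul, Matrix.mul_smul, Matrix.smul_mul, hPN, Matrix.mul_one,
          ← Units.val_mul, inv_mul_cancel, Units.val_one, PSL2.coe_uSL]
        ext i j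
        fin_cases i <;> fin_cases j <;> simp [Matrix.mul_apply, Fin.sum_univ_two, hW00, hW11]
        linear_combination (y * W' 1 0) * hWd
      have h3 := congrArg (fun X => P.1 * X * (P⁻¹).1) h1
      simp only [W', Matrix.mul_assoc, Units.mul_inv_cancel_left, Units.mul_inv, Matrix.mul_one] at h3
      simpa [Matrix.mul_assoc] using h3))
    rwa [e]
  have htop : H.comap φ = ⊤ := by
    rw [eq_top_iff, ← CfsgLib.StSL.closure_transvection_eq_top (K := F) (n := 2) le_rfl, Subgroup.closure_le]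
    rintro _ ⟨i, j, hij, t, rfl⟩
    fin_cases i <;> fin_cases j
    · exact absurd rfl hij
    · rw [show Matrix.SpecialLinearGroup.transvection hij t = PSL2.uSL t from Subtype.ext (by
        ext a b; fin_cases a <;> fin_cases b <;> simp [Matrix.SpecialLinearGroup.transvection, PSL2.coe_uSL,
          Matrix.transvection, Matrix.single])]
      exact hu t
    · rw [show Matrix.SpecialLinearGroup.transvection hij t = PSL2.vSL t from Subtype.ext (by
        ext a b; fin_cases a <;> fin_cases b <;> simp [Matrix.SpecialLinearGroup.transvection, PSL2.coe_vSL,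
          Matrix.transvection, Matrix.single])]
      exact hv t
    · exact absurd rfl hij
  refine eq_top_iff.2 fun A _ => ?_
  let A' : SL := ⟨(P⁻¹).1 * A.1 * P.1, by
    rw [Matrix.det_mul, Matrix.det_mul, mul_right_comm, ← Matrix.det_mul, ← Units.val_mul, inv_mul_cancel,
      Units.val_one, Matrix.det_one, one_mul, A.2]⟩
  have hA' : A' ∈ H.comap φ := htop ▸ Subgroup.mem_top A'
  rw [Subgroup.mem_comap, show φ A' = A from Subtype.ext (by
    show P.1 * ((P⁻¹).1 * A.1 * P.1) * (P⁻¹).1 = A.1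
    simp [Matrix.mul_assoc])] at hA'
  exact hA'

end CfsgLib.RankTwoModel.L4.W
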