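import Cfsg.Agent.Lib.RankTwoModel.L4.W.Algebra
import Cfsg.Agent.Lib.RankTwoModel.L4.W.Setup
import Cfsg.Agent.Lib.RankTwo.TorusPart
import Cfsg.Agent.Lib.RankTwoModel.Glue.FieldPair
import Cfsg.Agent.Lib.RankTwoModel.Glue.CoreCentral
import Cfsg.Agent.Lib.RankTwoModel.Shape.Eta

/-!
The shape of an `r`-element of `C(u)` inverted by `z` which commutes with its conjugates under `C_D(u)`.

* `Ctx.probe`: an element of `C_D(u)` acting at `u` as a torus element neither scalar nor `v`;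
* `Ctx.shape`: such an element is in the core at `u` or acts there as a transvection, and then `r = p`.

Blueprint: `blueprint/RankTwo_L4W.md`, step 2.
-/

set_option autoImplicit false
set_option linter.unusedSectionVars false
set_option linter.style.haveILetI false

namespace CfsgLib.RankTwoModel.L4

open Cfsg CfsgLib.GW CfsgLib.BG CfsgLib.BenderMax CfsgLib.RankTwoModel
open scoped MatrixGroups
open CfsgLib.RankTwoModel.Shape (ConjBy conjBy_one)

universe u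

variable {G : Type u} [Group G] [Finite G] {d : Frame G}

local notation "SL[" d "]" => Matrix.SpecialLinearGroup (Fin 2) (Frame.F d)
local notation "M2[" d "]" => Matrix (Fin 2) (Fin 2) (Frame.F d)

theorem conjBy_ext {φ ψ : MulAut SL[d]} {g : GL (Fin 2) d.F} (h : ConjBy φ g) (h' : ConjBy ψ g) : φ = ψ :=
  MulEquiv.ext fun A => Subtype.ext ((h A).trans (h' A).symm)

theorem conjBy_scalar {φ : MulAut SL[d]} {g : GL (Fin 2) d.F} (h : ConjBy φ g) {b : d.F}
    (hg : g.1 = b • (1 : M2[d])) : φ = 1 := by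
  have hb : b ≠ 0 := fun e => GW.Model.det_ne g (by rw [hg, e, zero_smul, Matrix.det_zero])
  exact conjBy_ext (h.smul (k := (1 : GL (Fin 2) d.F)) (inv_ne_zero hb)
    (by rw [hg, smul_smul, inv_mul_cancel₀ hb, one_smul, Units.val_one])) conjBy_one

theorem conjBy_conj (A : SL[d]) : ConjBy (MulAut.conj A) (Matrix.SpecialLinearGroup.toGL A) := fun X => by
  rw [← map_inv Matrix.SpecialLinearGroup.toGL A]
  rfl

variable {g : G} (c : Ctx d g)
include c

/-- `v`, the image of `z` at `u`. -/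
theorem Ctx.back_mem : g⁻¹ * d.z * g ∈ d.C := by
  refine Subgroup.mem_centralizer_singleton_iff.2 ?_
  calc g⁻¹ * d.z * g * d.z = g⁻¹ * (d.z * (g * d.z * g⁻¹)) * g := by group
    _ = g⁻¹ * (g * d.z * g⁻¹ * d.z) * g := by rw [c.hcm]
    _ = d.z * (g⁻¹ * d.z * g) := by group

theorem Ctx.back_order : orderOf (g⁻¹ * d.z * g) = 2 := by simpa using (orderOf_cj g⁻¹ d.z).trans c.spec.zord

theorem Ctx.back_ne : g⁻¹ * d.z * g ≠ d.z := fun e => c.hne (by
  calc g * d.z * g⁻¹ = g * (g⁻¹ * d.z * g) * g⁻¹ := by rw [e]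
    _ = d.z := by group)

theorem Ctx.back_conj_mem {y : G} (hy : y * inv2 d g = inv2 d g * y) : g⁻¹ * y * g ∈ d.C :=
  conj_mem_of_commute hy

/-- **The probe.** -/
theorem Ctx.probe (ρ : Rep d) : ∃ (t : G) (ht' : g⁻¹ * t * g ∈ d.C), t ∈ d.D ∧ t * inv2 d g = inv2 d g * t ∧
    ρ.field c.spec ⟨g⁻¹ * t * g, ht'⟩ = 1 ∧ ρ.σ ⟨g⁻¹ * t * g, ht'⟩ ≠ 1 ∧
      ρ.σ ⟨g⁻¹ * t * g, ht'⟩ ≠ ρ.σ ⟨g⁻¹ * d.z * g, c.back_mem⟩ := by
  classical
  haveI : Fact d.p.Prime := ⟨c.spec.prime⟩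
  haveI := c.spec.charP
  have hd := c.spec
  have hu : inv2 d g ∈ d.C := c.inv2_mem
  obtain ⟨g₀, htr, hns, hg₀⟩ := ρ.invol hd c.hq c.hyp hu c.inv2_order c.inv2_ne
  obtain ⟨b, hb, -, hbA⟩ := SL2.exists_torus hd.odd_card (hd.three_lt c.hq) htr
  obtain ⟨hcyc, hcard⟩ := SL2Tori.isCyclic_centralizer hb
  haveI := hcyc
  set T := Subgroup.centralizer ({b} : Set SL[d])
  have hv : ρ.σ ⟨g⁻¹ * d.z * g, c.back_mem⟩ ≠ 1 :=
    ρ.sigma_ne_one hd c.hq c.hyp c.back_mem c.back_order c.back_ne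
  by_cases hodd : ∃ l : ℕ, l.Prime ∧ l ≠ 2 ∧ l ∣ Nat.card T
  · obtain ⟨l, hl, hl2, hlN⟩ := hodd
    haveI := Fact.mk hl
    obtain ⟨A, hA⟩ := exists_prime_orderOf_dvd_card' (G := T) l hlN
    obtain ⟨s₀, hs₀, hs₀A⟩ := exists_InS c.hyp hd c.hq c.od hu c.inv2_order c.inv2_ne ρ hns htr hg₀
      ((hbA _).1 A.2)
    obtain ⟨a, o, ho, hao⟩ := Nat.exists_eq_two_pow_mul_odd (orderOf_pos s₀).ne'
    have hpow : ∀ i : ℕ, InS d (inv2 d g) (s₀ ^ i) := fun i => by
      induction i with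
      | zero => exact ⟨by simp, by simp, fun w _ _ => by simp⟩
      | succ i ih => rw [pow_succ]; exact InS.mul' c.hyp hd c.hq c.od hu c.inv2_order c.inv2_ne ih hs₀
    set s := s₀ ^ 2 ^ a with hs
    have hsodd : Odd (orderOf s) := ho.of_dvd_nat (orderOf_dvd_of_pow_eq_one (by
      rw [hs, ← pow_mul, ← hao, pow_orderOf_eq_one]))
    have hs1 : s ≠ 1 := fun e => by
      have e1 : (⟨s₀, hd.D_le_L c.hq hs₀.mem⟩ : ↥d.L) ^ 2 ^ a = 1 := Subtype.ext e
      have hπ := congrArg ρ.π e1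
      rw [map_pow, hs₀A, map_one, ← pow_two, ← pow_mul, mul_comm, ← pow_succ] at hπ
      have h1 : l ∣ 2 ^ (a + 1) := by
        rw [← hA, ← Subgroup.orderOf_coe]
        exact orderOf_dvd_of_pow_eq_one hπ
      exact hl2 ((Nat.prime_dvd_prime_iff_eq hl Nat.prime_two).1 (hl.dvd_of_dvd_pow h1))
    have hsS := hpow (2 ^ a)
    have hs' : g⁻¹ * s * g ∈ d.C := c.back_conj_mem hsS.comm
    have hodd' : Odd (orderOf (g⁻¹ * s * g)) := by
      rw [show orderOf (g⁻¹ * s * g) = orderOf s by simpa using orderOf_cj g⁻¹ s]; exact hsodd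
    have hσ : ρ.σ ⟨g⁻¹ * s * g, hs'⟩ ≠ 1 := fun e => hs1
      (InS.eq_one_core c.hyp hd c.hq c.od c.hne c.hcm hsS (ρ.sigma_eq_one hd c.hq c.hyp hs' hodd' e))
    refine ⟨s, hs', hsS.mem, hsS.comm, c.hyp.field_pair ρ hd c.hq c.od c.hne c.hcm (d.D_le hsS.mem) hs' hsodd
      (ρ.field_L hd (hd.D_le_L c.hq hsS.mem)), hσ, fun e => hσ ?_⟩
    -- a square equal to one forces an odd element to act trivially
    have h2 : ρ.σ ⟨g⁻¹ * s * g, hs'⟩ * ρ.σ ⟨g⁻¹ * s * g, hs'⟩ = 1 := by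
      rw [e, ← map_mul, show (⟨g⁻¹ * d.z * g, c.back_mem⟩ : ↥d.C) * ⟨g⁻¹ * d.z * g, c.back_mem⟩ = 1 from
        Subtype.ext (invol_mul_self c.back_order), map_one]
    exact eq_one_of_sq_odd h2 (hodd'.of_dvd_nat ((orderOf_map_dvd ρ.σ _).trans (dvd_of_eq (Subgroup.orderOf_mk _ _))))
  · -- the torus is a 2-group
    obtain ⟨a, o, ho, hao⟩ := Nat.exists_eq_two_pow_mul_odd (Nat.card_pos (α := T)).ne'
    have ho1 : o = 1 := by
      by_contra hne
      obtain ⟨l, hl, hlo⟩ := Nat.exists_prime_and_dvd hne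
      refine hodd ⟨l, hl, fun e2 => ?_, hao ▸ hlo.mul_left _⟩
      exact absurd (ho.of_dvd_nat (e2 ▸ hlo)) (by decide)
    rw [ho1, mul_one] at hao
    have hq3 := hd.three_lt c.hq
    have hqodd := Nat.odd_iff.1 hd.odd_card
    have h2a : 4 ≤ 2 ^ a := by rcases hcard with e | e <;> rw [hao] at e <;> omega
    have ha2 : 2 ≤ a := by
      by_contra hlt
      have : 2 ^ a ≤ 2 ^ 1 := Nat.pow_le_pow_right (by norm_num) (by omega)
      omega
    obtain ⟨a', rfl⟩ : ∃ a', a = a' + 2 := ⟨a - 2, by omega⟩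
    obtain ⟨A, hA⟩ := IsCyclic.exists_generator (α := T)
    have hAord : orderOf (A : SL[d]) = 2 ^ (a' + 2) := by
      rw [Subgroup.orderOf_coe, orderOf_eq_card_of_forall_mem_zpowers hA, hao]
    have huu := c.inv2_sq
    obtain ⟨t₀, ht₀D, ht₀A, ht₀u⟩ := ρ.lift_fixed_D hd c.hq hu huu (sigma_fixed ρ hu hg₀ ((hbA _).1 A.2))
    have hneg : (A : SL[d]) ^ 2 ^ (a' + 1) = -1 := by
      rcases SL2Orders.eq_one_or_neg_one_of_sq (SL2Orders.two_ne_zero_of_odd hd.odd_card) ((A : SL[d]) ^ 2 ^ (a' + 1))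
        (by rw [← pow_two, ← pow_mul, ← pow_succ, ← hAord, pow_orderOf_eq_one]) with e | e
      · have h1 := orderOf_dvd_of_pow_eq_one e
        rw [hAord] at h1
        have := (Nat.pow_dvd_pow_iff_le_right (by norm_num : 1 < 2)).1 h1
        omega
      · exact e
    set o₁ := t₀ ^ 2 ^ (a' + 1) * d.z⁻¹ with ho₁
    have ho₁O : o₁ ∈ d.O := by
      refine (ρ.ker ((⟨t₀, hd.D_le_L c.hq ht₀D⟩ : ↥d.L) ^ 2 ^ (a' + 1) * ⟨d.z, hd.z_mem_L⟩⁻¹)).1 ?_
      rw [map_mul, map_pow, map_inv, ρ.pi_z hd, ht₀A, hneg, mul_inv_cancel]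
    obtain ⟨m, hm⟩ := d.O_odd
    set t := t₀ ^ Nat.card d.O with ht
    have htz : t ^ 2 ^ (a' + 1) = d.z := by
      have hz1 : Commute o₁ d.z := Frame.Spec.z_central (d.O_le ho₁O)
      rw [ht, ← pow_mul, mul_comm, pow_mul, show t₀ ^ 2 ^ (a' + 1) = o₁ * d.z by rw [ho₁, inv_mul_cancel_right],
        hz1.mul_pow, show o₁ ^ Nat.card d.O = 1 from orderOf_dvd_iff_pow_eq_one.1
          (Subgroup.orderOf_dvd_natCard _ ho₁O), one_mul, hm, pow_succ, pow_mul, pow_two, invol_mul_self hd.zord,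
        one_pow, one_mul]
    have htu : t * inv2 d g = inv2 d g * t := ((show Commute t₀ (inv2 d g) from ht₀u).pow_left _).eq
    have ht' : g⁻¹ * t * g ∈ d.C := c.back_conj_mem htu
    set f : ↥d.C := ⟨g⁻¹ * t * g, ht'⟩ with hf
    have hfv : f ^ 2 ^ (a' + 1) = ⟨g⁻¹ * d.z * g, c.back_mem⟩ := Subtype.ext (by
      show (g⁻¹ * t * g) ^ 2 ^ (a' + 1) = g⁻¹ * d.z * g
      have e := conj_pow (i := 2 ^ (a' + 1)) (a := g⁻¹) (b := t)
      rw [inv_inv] at e
      rw [e, htz])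
    have hi' : t ^ 2 ^ a' * inv2 d g = inv2 d g * t ^ 2 ^ a' := ((show Commute t _ from htu).pow_left _).eq
    have e' : (⟨g⁻¹ * t ^ 2 ^ a' * g, c.back_conj_mem hi'⟩ : ↥d.C) = f ^ 2 ^ a' := Subtype.ext (by
      show g⁻¹ * t ^ 2 ^ a' * g = (g⁻¹ * t * g) ^ 2 ^ a'
      have e := conj_pow (i := 2 ^ a') (a := g⁻¹) (b := t)
      rw [inv_inv] at e
      rw [e])
    have hsq : f ^ 2 ^ a' * f ^ 2 ^ a' = f ^ 2 ^ (a' + 1) := by rw [← pow_add, pow_succ, mul_two]
    refine ⟨t ^ 2 ^ a', c.back_conj_mem hi', pow_mem (pow_mem ht₀D _) _, hi', ?_, ?_, ?_⟩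
    · rw [e', map_pow]
      set φ := ρ.field hd f with hφ
      have hdvd : orderOf φ ∣ 2 ^ (a' + 2) := orderOf_dvd_of_pow_eq_one (by
        rw [hφ, ← map_pow, show f ^ 2 ^ (a' + 2) = 1 by
          rw [pow_succ, pow_mul, hfv]
          exact Subtype.ext (by
            show (g⁻¹ * d.z * g) ^ 2 = 1
            rw [pow_two, invol_mul_self c.back_order]), map_one])
      obtain ⟨j, -, hj⟩ := (Nat.dvd_prime_pow Nat.prime_two).1 hdvd
      have hq' : Nat.card (GW.Model.fixField φ) ^ orderOf φ = Fintype.card d.F := GW.Model.card_fixField φ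
      refine orderOf_dvd_iff_pow_eq_one.1 ?_
      rcases j with _ | j
      · rw [hj, pow_zero]; exact one_dvd _
      -- then `q = 9`
      set n := Nat.card (GW.Model.fixField φ) ^ 2 ^ j with hn
      have hnn : n * n = Fintype.card d.F := by rw [← hq', hj, pow_succ, pow_mul, ← hn, pow_two]
      have h4 : 4 ∣ 2 ^ (a' + 2) := ⟨2 ^ a', by ring⟩
      obtain ⟨m', hm'⟩ : ∃ m', n = 2 * m' + 1 := by
        rcases Nat.even_or_odd n with ⟨k, hk⟩ | hk
        · rw [← hnn, hk] at hqodd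
          have : (k + k) * (k + k) % 2 = 0 := by rw [show (k + k) * (k + k) = 2 * (2 * k * k) by ring]; simp
          omega
        · exact hk
      rw [hao] at hcard
      rw [← hnn, hm', show (2 * m' + 1) * (2 * m' + 1) = 4 * (m' * (m' + 1)) + 1 by ring] at hcard
      rcases hcard with e | e
      · have hd' : m' * (m' + 1) = 2 ^ a' := by
          rw [pow_add] at e
          omega
        obtain ⟨i, -, hi⟩ := (Nat.dvd_prime_pow Nat.prime_two).1 (Dvd.intro (m' + 1) hd')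
        obtain ⟨k, -, hk⟩ := (Nat.dvd_prime_pow Nat.prime_two).1 (Dvd.intro_left m' hd')
        have hm1 : m' = 1 := by
          rcases i with _ | i
          · simpa using hi
          · rcases k with _ | k
            · simp at hk
              rw [hk, zero_mul] at hd'
              have := Nat.two_pow_pos a'
              omega
            · rw [pow_succ] at hi hk; omega
        have hn3 : n = 3 := by omega
        have hj0 : j = 0 := by
          by_contra hne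
          obtain ⟨j', rfl⟩ := Nat.exists_eq_succ_of_ne_zero hne
          rw [hn, pow_succ, pow_mul, pow_two] at hn3
          set m₀ := Nat.card (GW.Model.fixField φ) ^ 2 ^ j'
          have h9 : m₀ ≤ 1 ∨ 4 ≤ m₀ * m₀ := by
            rcases Nat.lt_or_ge m₀ 2 with h | h
            · exact Or.inl (by omega)
            · exact Or.inr (Nat.mul_le_mul h h)
          rcases h9 with h | h
          · interval_cases m₀ <;> simp at hn3
          · omega
        rw [hj, hj0]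
        rw [hm1] at hd'
        rcases a' with _ | a''
        · simp at hd'
        · exact dvd_pow_self 2 (Nat.succ_ne_zero a'')
      · obtain ⟨k, hk⟩ := h4
        omega
    · intro e
      refine hv ?_
      rw [e', map_pow] at e
      rw [← hfv, ← hsq, map_mul, map_pow, e, one_mul]
    · intro e
      refine hv ?_
      rw [e', map_pow] at e
      have h2 : ρ.σ ⟨g⁻¹ * d.z * g, c.back_mem⟩ * ρ.σ ⟨g⁻¹ * d.z * g, c.back_mem⟩ =
          ρ.σ ⟨g⁻¹ * d.z * g, c.back_mem⟩ := by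
        conv_lhs => rw [← e, ← map_pow, ← map_mul, hsq, hfv]
      exact mul_eq_left.1 h2

/-- **The shape.** -/
theorem Ctx.shape {r : ℕ} (hr : r.Prime) (hr2 : r ≠ 2) (ρ : Rep d) {g₁ : GL (Fin 2) d.F}
    (hns : ∀ a : d.F, g₁.1 ≠ a • (1 : M2[d]))
    (hg₁ : ConjBy (ρ.σ ⟨g⁻¹ * d.z * g, c.back_mem⟩) g₁) {y : G} (hyu : y * inv2 d g = inv2 d g * y)
    (hzy : d.z * y * d.z⁻¹ = y⁻¹) {i : ℕ} (hpow : y ^ r ^ i = 1)
    (hcomm : ∀ t ∈ d.D, t * inv2 d g = inv2 d g * t → Commute y (t * y * t⁻¹)) :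
    g⁻¹ * y * g ∈ d.O ∨ (r = d.p ∧ ∃ (N : M2[d]) (A : SL[d]), N ≠ 0 ∧ N * N = 0 ∧ g₁.1 * N = -(N * g₁.1) ∧
      A.1 = 1 + N ∧ ρ.σ ⟨g⁻¹ * y * g, c.back_conj_mem hyu⟩ = MulAut.conj A) := by
  haveI : Fact d.p.Prime := ⟨c.spec.prime⟩
  haveI := c.spec.charP
  have hd := c.spec
  set y' : ↥d.C := ⟨g⁻¹ * y * g, c.back_conj_mem hyu⟩ with hy'
  set v' : ↥d.C := ⟨g⁻¹ * d.z * g, c.back_mem⟩ with hv'
  have hinv : v' * y' * v'⁻¹ = y'⁻¹ := Subtype.ext (by
    show g⁻¹ * d.z * g * (g⁻¹ * y * g) * (g⁻¹ * d.z * g)⁻¹ = (g⁻¹ * y * g)⁻¹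
    calc g⁻¹ * d.z * g * (g⁻¹ * y * g) * (g⁻¹ * d.z * g)⁻¹ = g⁻¹ * (d.z * y * d.z⁻¹) * g := by group
      _ = g⁻¹ * y⁻¹ * g := by rw [hzy]
      _ = _ := by group)
  have hodd : Odd (orderOf y') := by
    refine ((hr.odd_of_ne_two hr2).pow (n := i)).of_dvd_nat (orderOf_dvd_of_pow_eq_one (Subtype.ext ?_))
    show (g⁻¹ * y * g) ^ r ^ i = 1
    have e := conj_pow (i := r ^ i) (a := g⁻¹) (b := y)
    rw [inv_inv] at e
    rw [e, hpow, mul_one, inv_mul_cancel]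
  by_cases h1 : ρ.σ y' = 1
  · exact Or.inl (ρ.sigma_eq_one hd c.hq c.hyp y'.2 (by rw [← Subgroup.orderOf_coe] at hodd; exact hodd) h1)
  refine Or.inr ?_
  -- no field part
  have hfv : ρ.field hd v' = 1 := (ρ.field_eq hd (g := g₁) (e := RingEquiv.refl d.F) fun A => by
    rw [show A.1.map (RingEquiv.refl d.F) = A.1 from Matrix.ext fun _ _ => rfl]
    exact hg₁ A).trans rfl
  have hfy : ρ.field hd y' = 1 := by
    have e := congrArg (ρ.field hd) hinv
    rw [map_mul, map_mul, map_inv, map_inv, hfv, inv_one, mul_one, one_mul] at e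
    exact eq_one_of_sq_odd (by nth_rewrite 1 [e]; exact inv_mul_cancel _)
      (hodd.of_dvd_nat (orderOf_map_dvd _ _))
  obtain ⟨k, hk⟩ := ρ.exists_conj_of_field hd c.hq hfy
  obtain ⟨a, -, ha⟩ := ConjBy.unique (ConjBy.inv hk)
    (show ConjBy (ρ.σ y')⁻¹ (g₁ * k * g₁⁻¹) from by
      rw [← map_inv, ← hinv, map_mul, map_mul, map_inv]
      exact (hg₁.mul hk).mul hg₁.inv)
  rw [Units.val_mul, Units.val_mul] at ha
  obtain ⟨t, ht', htD, htu, hft, hσ1, hσv⟩ := c.probe ρ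
  obtain ⟨h, hh⟩ := ρ.exists_conj_of_field hd c.hq hft
  have hhg : Commute h.1 g₁.1 := ρ.commute_of_comm hd c.hq c.hyp ht' c.back_mem (by
    have e := Frame.Spec.z_central (d.D_le htD)
    calc g⁻¹ * t * g * (g⁻¹ * d.z * g) = g⁻¹ * (t * d.z) * g := by group
      _ = g⁻¹ * (d.z * t) * g := by rw [e]
      _ = _ := by group) hh hg₁
  have hC : g⁻¹ * (t * y * t⁻¹) * g ∈ d.C := by
    rw [show g⁻¹ * (t * y * t⁻¹) * g = (g⁻¹ * t * g) * (g⁻¹ * y * g) * (g⁻¹ * t * g)⁻¹ by group]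
    exact mul_mem (mul_mem ht' y'.2) (inv_mem ht')
  have hkk : Commute k.1 (h * k * h⁻¹).1 := ρ.commute_of_comm hd c.hq c.hyp y'.2 hC (by
    show g⁻¹ * y * g * (g⁻¹ * (t * y * t⁻¹) * g) = g⁻¹ * (t * y * t⁻¹) * g * (g⁻¹ * y * g)
    have e := (hcomm t htD htu).eq
    calc g⁻¹ * y * g * (g⁻¹ * (t * y * t⁻¹) * g) = g⁻¹ * (y * (t * y * t⁻¹)) * g := by group
      _ = g⁻¹ * (t * y * t⁻¹ * y) * g := by rw [e]
      _ = _ := by group) hk (by
    rw [show (⟨g⁻¹ * (t * y * t⁻¹) * g, hC⟩ : ↥d.C) = ⟨g⁻¹ * t * g, ht'⟩ * y' * ⟨g⁻¹ * t * g, ht'⟩⁻¹ from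
      Subtype.ext (by
        show g⁻¹ * (t * y * t⁻¹) * g = g⁻¹ * t * g * (g⁻¹ * y * g) * (g⁻¹ * t * g)⁻¹
        group), map_mul, map_mul, map_inv]
    exact ((show ConjBy _ h from hh).mul hk).mul (show ConjBy _ h from hh).inv)
  obtain ⟨c₀, N, hc₀, hN, hNN, hgN, hkN⟩ := W.inverted_unipotent (SL2Orders.two_ne_zero_of_odd hd.odd_card) hns ha
    (fun b hb => h1 (eq_one_of_sq_odd
      (conjBy_scalar ((show ConjBy _ k from hk).mul hk) (by rw [Units.val_mul]; exact hb))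
      (hodd.of_dvd_nat (orderOf_map_dvd _ _))))
    hhg (fun b hb => hσ1 (conjBy_scalar hh hb))
    (fun b hb => hσv (by
      have hb0 : b ≠ 0 := fun e => GW.Model.det_ne h (by rw [hb, e, zero_smul, Matrix.det_zero])
      exact conjBy_ext hh (hg₁.smul hb0 hb)))
    (by rw [← Units.val_mul, ← Units.val_mul]; exact hkk)
  have hdet : (1 + N).det = 1 := by
    obtain ⟨P, -, -, hPN, -⟩ := W.exists_coords (SL2Orders.two_ne_zero_of_odd hd.odd_card) hN hNN hgN
    have e : (1 + N).det = ((P⁻¹).1 * (1 + N) * P.1).det := by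
      rw [Matrix.det_mul, Matrix.det_mul, mul_right_comm, ← Matrix.det_mul, ← Units.val_mul, inv_mul_cancel,
        Units.val_one, Matrix.det_one, one_mul]
    rw [e, Matrix.mul_add, Matrix.add_mul, hPN, Matrix.mul_one, ← Units.val_mul, inv_mul_cancel, Units.val_one,
      Matrix.det_fin_two]
    simp
  let A : SL[d] := ⟨1 + N, hdet⟩
  have hA : ρ.σ y' = MulAut.conj A := conjBy_ext
    ((show ConjBy _ k from hk).smul (k := Matrix.SpecialLinearGroup.toGL A) (inv_ne_zero hc₀)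
      (by rw [hkN, smul_smul, inv_mul_cancel₀ hc₀, one_smul]; rfl)) (conjBy_conj A)
  refine ⟨?_, N, A, hN, hNN, hgN, rfl, hA⟩
  have hpw : ∀ n : ℕ, (A ^ n).1 = 1 + (n : d.F) • N := by
    intro n
    induction n with
    | zero => simp
    | succ n ih =>
      rw [pow_succ, Matrix.SpecialLinearGroup.coe_mul, ih]
      show (1 + (n : d.F) • N) * (1 + N) = _
      rw [Matrix.mul_add, Matrix.mul_one, Matrix.add_mul, Matrix.one_mul, Matrix.smul_mul, hNN, smul_zero, add_zero,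
        Nat.cast_succ, add_smul, one_smul, add_assoc]
  have hp1 : ρ.σ y' ^ d.p = 1 := by
    rw [hA, ← map_pow, show A ^ d.p = 1 from Subtype.ext (by rw [hpw, CharP.cast_eq_zero, zero_smul, add_zero]; rfl),
      map_one]
  have hord : orderOf (ρ.σ y') = d.p := orderOf_eq_prime hp1 h1
  have hdvd : d.p ∣ r ^ i := by
    rw [← hord]
    refine orderOf_dvd_of_pow_eq_one ?_
    rw [← map_pow, show y' ^ r ^ i = 1 from Subtype.ext (by
      show (g⁻¹ * y * g) ^ r ^ i = 1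
      have e := conj_pow (i := r ^ i) (a := g⁻¹) (b := y)
      rw [inv_inv] at e
      rw [e, hpow, mul_one, inv_mul_cancel]), map_one]
  exact ((Nat.prime_dvd_prime_iff_eq hd.prime hr).1 (hd.prime.dvd_of_dvd_pow hdvd)).symm

end CfsgLib.RankTwoModel.L4
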