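import Cfsg.Agent.Lib.RankTwoModel.L4.W.Setup
import Cfsg.Agent.Lib.RankTwoModel.L4.W.Shape

/-!
No root part: `P = R`.

* `Std.swap`, `Rc_mul`, `Std.Rc_commute`: the four group permutes the three conjugates of `R`;
* `Std.top_inverted`, `Std.top_shape`: the elements of `C_P(u)`;
* `Std.good`: if no element of `C_P(u)` has a root part, then `P = R`.

Blueprint: `blueprint/RankTwo_L4W.md`, step 3.
-/

set_option autoImplicit false
set_option linter.unusedSectionVars false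
set_option linter.style.haveILetI false

namespace CfsgLib.RankTwoModel.L4

open Cfsg CfsgLib.BG CfsgLib.GW CfsgLib.BenderMax CfsgLib.RankTwoModel
open CfsgLib.RankTwoModel.Shape (ConjBy)
open scoped MatrixGroups

universe u

variable {G : Type u} [Group G] [Finite G] {d : Frame G}

local notation "SL[" d "]" => Matrix.SpecialLinearGroup (Fin 2) (Frame.F d)
local notation "M2[" d "]" => Matrix (Fin 2) (Fin 2) (Frame.F d)

theorem Rc_mul {g : G} {r : ℕ} {h k x : G} (hx : x ∈ Rc d g r k) : h * x * h⁻¹ ∈ Rc d g r (h * k) := by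
  rw [mem_Rc] at hx ⊢
  rwa [show (h * k)⁻¹ * (h * x * h⁻¹) * (h * k) = k⁻¹ * x * k by group]

variable {g : G} {r : ℕ} (s : Std d g r)
include s

theorem Std.z_conj_zz {x : G} : d.z * (d.z * x) = x := by rw [← mul_assoc, s.zz, one_mul]

theorem Std.back_eq : g⁻¹ * d.z * g = d.z * inv2 d g := by
  conv_lhs => rw [← s.gzu]
  group

theorem Std.gg_z : g * g * d.z * (g * g)⁻¹ = d.z * inv2 d g := by
  rw [← s.gu]
  show g * g * d.z * (g * g)⁻¹ = g * (g * d.z * g⁻¹) * g⁻¹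
  group

theorem Std.ggg : g * g * g * d.z * (g * g * g)⁻¹ = d.z := by
  conv_rhs => rw [← s.gzu, ← s.gu]
  show g * g * g * d.z * (g * g * g)⁻¹ = g * (g * (g * d.z * g⁻¹) * g⁻¹) * g⁻¹
  group

theorem Std.zu_mem : d.z * inv2 d g ∈ d.C := mul_mem Frame.Spec.z_mem_C s.ctx.inv2_mem

/-- An element of `D` interchanging `u` and `z u`. -/
theorem Std.swap : ∃ w ∈ d.D, w * inv2 d g * w⁻¹ = d.z * inv2 d g ∧ w * (d.z * inv2 d g) * w⁻¹ = inv2 d g := by
  obtain ⟨w, hw, e⟩ := s.ctx.hyp.swap_D s.ctx.spec s.ctx.hq s.ctx.inv2_mem s.ctx.inv2_order s.ctx.inv2_ne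
  refine ⟨w, hw, e, ?_⟩
  have hz := Frame.Spec.z_central (d.D_le hw)
  calc w * (d.z * inv2 d g) * w⁻¹ = (w * d.z) * w⁻¹ * (w * inv2 d g * w⁻¹) := by group
    _ = inv2 d g := by rw [hz, mul_inv_cancel_right, e, s.z_conj_zz]

theorem Std.fixed_D {a x : G} (ha : a ∈ d.D) (hx : x ∈ invR d g r) : a * x * a⁻¹ = x :=
  mul_inv_eq_iff_eq_mul.2 (s.ctx.od x (s.ctx.invI_le (s.invR_le hx)) a ha).symm

/-- An element of `R` centralising one of the other conjugates centralises both. -/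
theorem Std.Rc_commute {x : G} (hx : x ∈ invR d g r)
    (h : (∀ a ∈ Rc d g r g, Commute x a) ∨ ∀ a ∈ Rc d g r (g * g), Commute x a) :
    (∀ a ∈ Rc d g r g, Commute x a) ∧ ∀ a ∈ Rc d g r (g * g), Commute x a := by
  obtain ⟨w, hw, e1, e2⟩ := s.swap
  have key : ∀ k k' : G, w * (k * d.z * k⁻¹) * w⁻¹ = k' * d.z * k'⁻¹ → (∀ a ∈ Rc d g r k', Commute x a) →
      ∀ a ∈ Rc d g r k, Commute x a := by
    intro k k' e hk a ha
    have h1 : w * a * w⁻¹ ∈ Rc d g r k' := by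
      rw [← s.Rc_eq (k := w * k) (k' := k') (by rw [← e]; group)]
      exact Rc_mul ha
    have h2 := hk _ h1
    rw [← s.fixed_D hw hx] at h2
    exact (Commute.conj_iff w).1 h2
  rcases h with h | h
  · exact ⟨h, key (g * g) g (by rw [s.gg_z, e2]; rfl) h⟩
  · exact ⟨key g (g * g) (by rw [s.gg_z, ← e1]; rfl) h, h⟩

variable {P : Subgroup G} (t : Top d g r P)
include t

theorem Std.top_commute_R {x y : G} (hx : x ∈ P) (hy : y ∈ invR d g r) : Commute x y :=
  (Subgroup.mem_centralizer_iff.1 (s.coreR_le (t.le hx)) y hy).symm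

theorem Std.top_odd : Odd (Nat.card P) := s.coreR_odd.of_dvd_nat (Subgroup.card_dvd_of_le t.le)

/-- `z` inverts `C_P(v)` for the two other involutions of the four group. -/
theorem Std.top_inverted {x : G} (hx : x ∈ P)
    (h : x * inv2 d g = inv2 d g * x ∨ x * (d.z * inv2 d g) = d.z * inv2 d g * x) : d.z * x * d.z⁻¹ = x⁻¹ := by
  rcases h with h | h
  · exact s.inverted_of_fpf s.ctx.hcm (fun a ha h1 h2 => s.coreR_fpf ha h1 h2) (t.le hx) h
  · refine s.inverted_of_fpf (v := d.z * inv2 d g) ((Frame.Spec.z_central s.zu_mem)) (fun a ha h1 h2 => ?_) (t.le hx) h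
    refine s.coreR_fpf ha h1 ?_
    have := ((show Commute a d.z from h1).mul_right (show Commute a (d.z * inv2 d g) from h2)).eq
    rwa [s.z_conj_zz] at this

theorem Std.top_comm_u {x y : G} (hx : x ∈ P) (hxu : x * inv2 d g = inv2 d g * x) (hy : y ∈ P)
    (hyu : y * inv2 d g = inv2 d g * y) : Commute x y := by
  have h1 := s.top_inverted t (mul_mem hx hy) (Or.inl ((show Commute x _ from hxu).mul_left hyu).eq)
  rw [show d.z * (x * y) * d.z⁻¹ = (d.z * x * d.z⁻¹) * (d.z * y * d.z⁻¹) by group,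
    s.top_inverted t hx (Or.inl hxu), s.top_inverted t hy (Or.inl hyu), mul_inv_rev] at h1
  exact Commute.inv_inv_iff.1 h1

theorem Std.D_conj_top {a x : G} (ha : a ∈ d.D) (hx : x ∈ P) : a * x * a⁻¹ ∈ P :=
  (Subgroup.mem_normalizer_iff.1 (s.D_le_top t ha) x).1 hx

/-- The elements of `C_P(u)` are in the core at `u` or have a root part. -/
theorem Std.top_shape (ρ : Rep d) {g₁ : GL (Fin 2) d.F} (hns : ∀ a : d.F, g₁.1 ≠ a • (1 : M2[d]))
    (hg₁ : ConjBy (ρ.σ ⟨g⁻¹ * d.z * g, s.ctx.back_mem⟩) g₁) {y : G} (hy : y ∈ P)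
    (hyu : y * inv2 d g = inv2 d g * y) :
    g⁻¹ * y * g ∈ d.O ∨ (r = d.p ∧ ∃ (N : M2[d]) (A : SL[d]), N ≠ 0 ∧ N * N = 0 ∧ g₁.1 * N = -(N * g₁.1) ∧
      A.1 = 1 + N ∧ ρ.σ ⟨g⁻¹ * y * g, s.ctx.back_conj_mem hyu⟩ = MulAut.conj A) := by
  obtain ⟨i, hi⟩ := t.pgroup ⟨y, hy⟩
  have hr2 : r ≠ 2 := fun e => absurd (e ▸ s.odd_r) (by decide)
  refine s.ctx.shape s.prime hr2 ρ hns hg₁ hyu (s.top_inverted t hy (Or.inl hyu)) (i := i)
    (by simpa using congrArg Subtype.val hi) fun a ha hau => s.top_comm_u t hy hyu (s.D_conj_top t ha hy) ?_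
  exact (((show Commute a _ from hau).mul_left hyu).mul_left (show Commute a _ from hau).inv_left).eq

/-- An element of `C_P(u)` in the core at `u` lies in the conjugate of `R`. -/
theorem Std.mem_Rc_of_core {y : G} (hy : y ∈ P) (hyu : y * inv2 d g = inv2 d g * y) (hO : g⁻¹ * y * g ∈ d.O) :
    y ∈ Rc d g r g := by
  set x := g⁻¹ * y * g with hx
  have h1 : d.z * inv2 d g * x * (d.z * inv2 d g)⁻¹ = x⁻¹ := by
    rw [← s.back_eq, show g⁻¹ * d.z * g * x * (g⁻¹ * d.z * g)⁻¹ = g⁻¹ * (d.z * y * d.z⁻¹) * g by rw [hx]; group,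
      s.top_inverted t hy (Or.inl hyu), hx]
    group
  have h2 : inv2 d g * x * (inv2 d g)⁻¹ = x⁻¹ := by
    have e := Frame.Spec.z_central (d.O_le (Frame.Spec.O_conj s.ctx.inv2_mem hO))
    rw [show d.z * inv2 d g * x * (d.z * inv2 d g)⁻¹ = d.z * (inv2 d g * x * (inv2 d g)⁻¹) * d.z⁻¹ by group, ← e,
      mul_inv_cancel_right] at h1
    exact h1
  obtain ⟨i, hi⟩ := t.pgroup ⟨y, hy⟩
  refine mem_Rc.2 (s.ctx.mem_invR.2 ⟨s.ctx.mem_invI.2 ⟨hO, h2⟩, i, ?_⟩)
  have e := conj_pow (i := r ^ i) (a := g⁻¹) (b := y)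
  rw [inv_inv] at e
  rw [e, show y ^ r ^ i = 1 by simpa using congrArg Subtype.val hi, mul_one, inv_mul_cancel]

/-- **No root part: `P = R`.** -/
theorem Std.good (hgood : ∀ y ∈ P, y * inv2 d g = inv2 d g * y → g⁻¹ * y * g ∈ d.O) : P = invR d g r := by
  classical
  set J := invR d g r ⊔ Rc d g r g ⊔ Rc d g r (g * g) with hJ
  set Z := Subgroup.centralizer (J : Set G) with hZ
  set F1 := Rc d g r g ⊓ Z with hF1
  set F2 := Rc d g r (g * g) ⊓ Z with hF2
  set A := invR d g r ⊓ Z ⊔ (F1 ⊔ F2) with hA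
  have hmemJ : ∀ x : G, (∀ a ∈ invR d g r, Commute x a) → (∀ a ∈ Rc d g r g, Commute x a) →
      (∀ a ∈ Rc d g r (g * g), Commute x a) → x ∈ Z := fun x h0 h1 h2 =>
    Subgroup.mem_centralizer_iff.2 fun a ha => by
      have hle : J ≤ Subgroup.centralizer ({x} : Set G) := sup_le (sup_le
        (fun b hb => Subgroup.mem_centralizer_singleton_iff.2 (h0 b hb).eq.symm)
        (fun b hb => Subgroup.mem_centralizer_singleton_iff.2 (h1 b hb).eq.symm))
        (fun b hb => Subgroup.mem_centralizer_singleton_iff.2 (h2 b hb).eq.symm)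
      exact Subgroup.mem_centralizer_singleton_iff.1 (hle ha)
  -- `g` permutes the three conjugates
  have hg0 : ∀ {x : G}, x ∈ invR d g r → g * x * g⁻¹ ∈ Rc d g r g := fun hx => mem_Rc.2 (by
    simpa [mul_assoc] using hx)
  have hg1 : ∀ {x : G}, x ∈ Rc d g r g → g * x * g⁻¹ ∈ Rc d g r (g * g) := fun hx => Rc_mul hx
  have hg2 : ∀ {x : G}, x ∈ Rc d g r (g * g) → g * x * g⁻¹ ∈ invR d g r := fun hx => by
    have := Rc_mul (h := g) hx
    rwa [← mul_assoc g g g, s.Rc_one s.ggg] at this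
  have hgJ : g ∈ Subgroup.normalizer (J : Set G) := by
    refine Subgroup.mem_normalizer_fintype fun x hx => ?_
    have : J ≤ J.comap (MulAut.conj g).toMonoidHom := sup_le (sup_le
      (fun a ha => Subgroup.mem_sup_left (Subgroup.mem_sup_right (hg0 ha)))
      (fun a ha => Subgroup.mem_sup_right (hg1 ha)))
      (fun a ha => Subgroup.mem_sup_left (Subgroup.mem_sup_left (hg2 ha)))
    exact this hx
  have hgZ : ∀ {x : G}, x ∈ Z → g * x * g⁻¹ ∈ Z := fun {x} hx => Subgroup.mem_centralizer_iff.2 fun a ha => by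
    have h1 := Subgroup.mem_centralizer_iff.1 hx _ ((Subgroup.mem_normalizer_iff''.1 hgJ a).1 ha)
    calc a * (g * x * g⁻¹) = g * (g⁻¹ * a * g * x) * g⁻¹ := by group
      _ = g * (x * (g⁻¹ * a * g)) * g⁻¹ := by rw [h1]
      _ = _ := by group
  -- centralising `R` is enough
  have hZ1 : ∀ {y : G}, y ∈ Rc d g r g → (∀ a ∈ invR d g r, Commute y a) → y ∈ Z := by
    intro y hy h
    have hy0 : g⁻¹ * y * g ∈ invR d g r := mem_Rc.1 hy
    have h2 : ∀ a ∈ Rc d g r (g * g), Commute (g⁻¹ * y * g) a := fun a ha => by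
      have := (Commute.conj_iff g⁻¹).2 (h _ (hg2 ha))
      simpa [mul_assoc] using this
    have hall := s.Rc_commute hy0 (Or.inr h2)
    have := hgZ (hmemJ _ (fun a ha => s.ctx.invI_comm (s.invR_le hy0) (s.invR_le ha)) hall.1 hall.2)
    simpa [mul_assoc] using this
  have hZ2 : ∀ {y : G}, y ∈ Rc d g r (g * g) → (∀ a ∈ invR d g r, Commute y a) → y ∈ Z := by
    intro y hy h
    have hy0 : (g * g)⁻¹ * y * (g * g) ∈ invR d g r := mem_Rc.1 hy
    have h2 : ∀ a ∈ Rc d g r g, Commute ((g * g)⁻¹ * y * (g * g)) a := fun a ha => by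
      have := (Commute.conj_iff (g * g)⁻¹).2 (h _ (hg2 (hg1 ha)))
      simpa [mul_assoc] using this
    have hall := s.Rc_commute hy0 (Or.inl h2)
    have := hgZ (hgZ (hmemJ _ (fun a ha => s.ctx.invI_comm (s.invR_le hy0) (s.invR_le ha)) hall.1 hall.2))
    simpa [mul_assoc] using this
  -- the generators
  have hinR1 : ∀ x ∈ Rc d g r g, x * inv2 d g = inv2 d g * x ∧ d.z * x * d.z⁻¹ = x⁻¹ ∧
      d.z * inv2 d g * x * (d.z * inv2 d g)⁻¹ = x⁻¹ := by
    intro x hx
    obtain ⟨h1, h2, h3⟩ := s.invR_acts (mem_Rc.1 hx)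
    refine ⟨?_, ?_, ?_⟩
    · have := congrArg (fun a => g * a * g⁻¹) h1
      rw [show g * (d.z * (g⁻¹ * x * g) * d.z⁻¹) * g⁻¹ = (g * d.z * g⁻¹) * x * (g * d.z * g⁻¹)⁻¹ by group,
        show g * (g⁻¹ * x * g) * g⁻¹ = x by group] at this
      exact (mul_inv_eq_iff_eq_mul.1 this).symm
    · have := congrArg (fun a => g * a * g⁻¹) h3
      rw [show g * (d.z * inv2 d g * (g⁻¹ * x * g) * (d.z * inv2 d g)⁻¹) * g⁻¹ =
        (g * (d.z * inv2 d g) * g⁻¹) * x * (g * (d.z * inv2 d g) * g⁻¹)⁻¹ by group, s.gzu,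
        show g * (g⁻¹ * x * g)⁻¹ * g⁻¹ = x⁻¹ by group] at this
      exact this
    · have := congrArg (fun a => g * a * g⁻¹) h2
      rw [show g * (inv2 d g * (g⁻¹ * x * g) * (inv2 d g)⁻¹) * g⁻¹ =
        (g * inv2 d g * g⁻¹) * x * (g * inv2 d g * g⁻¹)⁻¹ by group, s.gu,
        show g * (g⁻¹ * x * g)⁻¹ * g⁻¹ = x⁻¹ by group] at this
      exact this
  have hinR2 : ∀ x ∈ Rc d g r (g * g), d.z * x * d.z⁻¹ = x⁻¹ ∧ inv2 d g * x * (inv2 d g)⁻¹ = x⁻¹ := by
    intro x hx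
    have hx' : g⁻¹ * x * g ∈ Rc d g r g := by
      have := Rc_mul (h := g⁻¹) hx
      rwa [inv_inv, inv_mul_cancel_left] at this
    obtain ⟨-, h2, h3⟩ := hinR1 _ hx'
    constructor
    · have := congrArg (fun a => g * a * g⁻¹) h3
      rw [show g * (d.z * inv2 d g * (g⁻¹ * x * g) * (d.z * inv2 d g)⁻¹) * g⁻¹ =
        (g * (d.z * inv2 d g) * g⁻¹) * x * (g * (d.z * inv2 d g) * g⁻¹)⁻¹ by group, s.gzu,
        show g * (g⁻¹ * x * g)⁻¹ * g⁻¹ = x⁻¹ by group] at this
      exact this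
    · have := congrArg (fun a => g * a * g⁻¹) h2
      rw [show g * (d.z * (g⁻¹ * x * g) * d.z⁻¹) * g⁻¹ = (g * d.z * g⁻¹) * x * (g * d.z * g⁻¹)⁻¹ by group,
        show g * (g⁻¹ * x * g)⁻¹ * g⁻¹ = x⁻¹ by group] at this
      exact this
  -- the generators lie in `P`
  have hFP : ∀ {k : G}, (∀ x ∈ Rc d g r k, d.z * x * d.z⁻¹ = x⁻¹ ∧ inv2 d g * x * (inv2 d g)⁻¹ ∈ Rc d g r k) →
      Rc d g r k ⊓ Z ≤ P := by
    intro k hk
    have hp : IsPGroup r (Rc d g r k ⊓ Z : Subgroup G) := (s.invR_pgroup.map _).to_le inf_le_left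
    refine t.max _ (fun x hx => ?_) hp (four_le ?_ ?_)
    · refine s.mem_coreR ?_ ?_ (hk x hx.1).1
      · exact Subgroup.mem_centralizer_iff.2 fun a ha =>
          Subgroup.mem_centralizer_iff.1 hx.2 a (Subgroup.mem_sup_left (Subgroup.mem_sup_left ha))
      · obtain ⟨i, hi⟩ := hp ⟨x, hx⟩
        exact (s.odd_r.pow (n := i)).of_dvd_nat (orderOf_dvd_of_pow_eq_one (by simpa using congrArg Subtype.val hi))
    all_goals
      refine Subgroup.mem_normalizer_fintype fun x hx => ⟨?_, Subgroup.mem_centralizer_iff.2 fun a ha => ?_⟩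
    · rw [(hk x hx.1).1]; exact Subgroup.inv_mem _ hx.1
    · rw [(hk x hx.1).1]; exact Subgroup.mem_centralizer_iff.1 (Subgroup.inv_mem _ hx.2) a ha
    · exact (hk x hx.1).2
    · have hJu : inv2 d g ∈ Subgroup.normalizer (J : Set G) := by
        refine Subgroup.mem_normalizer_fintype fun b hb => ?_
        have : J ≤ J.comap (MulAut.conj (inv2 d g)).toMonoidHom := sup_le (sup_le
          (fun c hc => Subgroup.mem_sup_left (Subgroup.mem_sup_left (s.ctx.invR_conj s.ctx.inv2_mem hc)))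
          (fun c hc => Subgroup.mem_sup_left (Subgroup.mem_sup_right (by
            show inv2 d g * c * (inv2 d g)⁻¹ ∈ _
            rwa [← (hinR1 c hc).1, mul_inv_cancel_right]))))
          (fun c hc => Subgroup.mem_sup_right (by
            show inv2 d g * c * (inv2 d g)⁻¹ ∈ _
            rw [(hinR2 c hc).2]; exact inv_mem hc))
        exact this hb
      have h1 := Subgroup.mem_centralizer_iff.1 hx.2 _ ((Subgroup.mem_normalizer_iff''.1 hJu a).1 ha)
      calc a * (inv2 d g * x * (inv2 d g)⁻¹) = inv2 d g * ((inv2 d g)⁻¹ * a * inv2 d g * x) * (inv2 d g)⁻¹ := by group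
        _ = inv2 d g * (x * ((inv2 d g)⁻¹ * a * inv2 d g)) * (inv2 d g)⁻¹ := by rw [h1]
        _ = _ := by group
  have hF1P : F1 ≤ P := hFP fun x hx => ⟨(hinR1 x hx).2.1, by
    rwa [← (hinR1 x hx).1, mul_inv_cancel_right]⟩
  have hF2P : F2 ≤ P := hFP fun x hx => ⟨(hinR2 x hx).1, by rw [(hinR2 x hx).2]; exact inv_mem hx⟩
  -- `B` is the part inverted by `z`
  have hcentA : ∀ x ∈ F1 ⊔ F2, ∀ y ∈ F1 ⊔ F2, Commute x y := by
    intro x hx y hy
    have h1 : F1 ⊔ F2 ≤ J := sup_le (fun a ha => Subgroup.mem_sup_left (Subgroup.mem_sup_right ha.1))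
      (fun a ha => Subgroup.mem_sup_right ha.1)
    have h2 : F1 ⊔ F2 ≤ Z := sup_le inf_le_right inf_le_right
    exact (Subgroup.mem_centralizer_iff.1 (h2 hx) y (h1 hy)).symm
  have hBinv : ∀ x ∈ F1 ⊔ F2, d.z * x * d.z⁻¹ = x⁻¹ := by
    intro x hx
    refine Subgroup.closure_induction (k := (F1 : Set G) ∪ F2) (p := fun a _ => d.z * a * d.z⁻¹ = a⁻¹)
      ?_ (by simp) ?_ (fun a _ ha => by rw [show d.z * a⁻¹ * d.z⁻¹ = (d.z * a * d.z⁻¹)⁻¹ by group, ha])
      (by rwa [Subgroup.closure_union, Subgroup.closure_eq, Subgroup.closure_eq])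
    · rintro a (ha | ha)
      exacts [(hinR1 a ha.1).2.1, (hinR2 a ha.1).1]
    · intro a b ha hb h1 h2
      rw [show d.z * (a * b) * d.z⁻¹ = (d.z * a * d.z⁻¹) * (d.z * b * d.z⁻¹) by group, h1, h2, ← mul_inv_rev]
      rw [Subgroup.closure_union, Subgroup.closure_eq, Subgroup.closure_eq] at ha hb
      rw [(hcentA b hb a ha).eq]
  have hB : F1 ⊔ F2 ≤ P := sup_le hF1P hF2P
  -- `P = R F₁ F₂`
  obtain ⟨w, hw, e1, e2⟩ := s.swap
  have h4 := isKleinFour_four s.ctx.spec.zord s.ctx.inv2_order s.zu_comm s.ctx.inv2_ne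
  haveI : IsMulCommutative ↥(four d.z (inv2 d g)) :=
    ⟨⟨fun a b => Subtype.ext (four_comm s.ctx.spec.zord s.ctx.inv2_order s.zu_comm s.ctx.inv2_ne a.2 b.2)⟩⟩
  have hgen : P ≤ invR d g r ⊔ (F1 ⊔ F2) := by
    rw [← CfsgLib.coprime_generated_by_centralizers (A := four d.z (inv2 d g)) (K := P)
      (by haveI := h4; exact IsKleinFour.not_isCyclic) t.invariant
      (s.four_coprime.coprime_dvd_right (Subgroup.card_dvd_of_le t.le))]
    refine iSup₂_le fun a ha x hx => ?_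
    obtain ⟨ha, ha1⟩ := ha
    have hxa : x * a = a * x := Subgroup.mem_centralizer_singleton_iff.1 hx.2
    have hu1 : ∀ y ∈ P, y * inv2 d g = inv2 d g * y → y ∈ F1 := fun y hy hyu =>
      ⟨s.mem_Rc_of_core t hy hyu (hgood y hy hyu),
        hZ1 (s.mem_Rc_of_core t hy hyu (hgood y hy hyu)) fun b hb => s.top_commute_R t hy hb⟩
    rcases (mem_four s.ctx.spec.zord s.ctx.inv2_order s.zu_comm).1 ha with e | e | e | e
    · exact absurd e ha1
    · exact Subgroup.mem_sup_left (s.top_inf_C t hx.1 (e ▸ hxa))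
    · exact Subgroup.mem_sup_right (Subgroup.mem_sup_left (hu1 x hx.1 (e ▸ hxa)))
    · refine Subgroup.mem_sup_right (Subgroup.mem_sup_right ?_)
      rw [e] at hxa
      have hxR : x ∈ Rc d g r (g * g) := by
        have hy : w⁻¹ * x * w ∈ P := by simpa using s.D_conj_top t (inv_mem hw) hx.1
        have hyu : w⁻¹ * x * w * inv2 d g = inv2 d g * (w⁻¹ * x * w) := by
          have he : inv2 d g = w⁻¹ * (d.z * inv2 d g) * w := by rw [← e1]; group
          rw [he]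
          calc w⁻¹ * x * w * (w⁻¹ * (d.z * inv2 d g) * w) = w⁻¹ * (x * (d.z * inv2 d g)) * w := by group
            _ = w⁻¹ * (d.z * inv2 d g * x) * w := by rw [hxa]
            _ = _ := by group
        have h1 := Rc_mul (h := w) (hu1 _ hy hyu).1
        rw [show w * (w⁻¹ * x * w) * w⁻¹ = x by group,
          s.Rc_eq (k := w * g) (k' := g * g) (by rw [s.gg_z, ← e1]; show _ = w * (g * d.z * g⁻¹) * w⁻¹; group)] at h1
        exact h1
      exact ⟨hxR, hZ2 hxR fun b hb => s.top_commute_R t hx.1 hb⟩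
  have hAP : A ≤ P := sup_le (inf_le_left.trans (s.invR_le_top t)) hB
  have hDA : d.D ≤ Subgroup.normalizer (A : Set G) := by
    intro a ha
    refine Subgroup.mem_normalizer_fintype fun x hx => ?_
    have hle : A ≤ A.comap (MulAut.conj a).toMonoidHom := by
      refine sup_le (fun b hb => Subgroup.mem_sup_left ?_) fun b hb => Subgroup.mem_sup_right ?_
      · show a * b * a⁻¹ ∈ _
        rw [s.fixed_D ha hb.1]; exact hb
      · show a * b * a⁻¹ ∈ F1 ⊔ F2
        have hmem := s.D_conj_top t ha (hB hb)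
        have hinv : d.z * (a * b * a⁻¹) * d.z⁻¹ = (a * b * a⁻¹)⁻¹ := by
          have e := Frame.Spec.z_central (d.D_le ha)
          calc d.z * (a * b * a⁻¹) * d.z⁻¹ = (d.z * a) * b * (d.z * a)⁻¹ := by group
            _ = (a * d.z) * b * (a * d.z)⁻¹ := by rw [e]
            _ = a * (d.z * b * d.z⁻¹) * a⁻¹ := by group
            _ = _ := by rw [hBinv b hb]; group
        -- split along `R` times `B`
        have hnorm : F1 ⊔ F2 ≤ Subgroup.normalizer (invR d g r : Set G) := fun c hc =>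
          Subgroup.mem_normalizer_fintype fun b hb => by
            rw [(s.top_commute_R t (hB hc) hb).eq, mul_inv_cancel_right]; exact hb
        obtain ⟨r₀, hr₀, b', hb', e⟩ : ∃ r₀ ∈ invR d g r, ∃ b' ∈ F1 ⊔ F2, r₀ * b' = a * b * a⁻¹ := by
          have hmem' : a * b * a⁻¹ ∈ ((invR d g r ⊔ (F1 ⊔ F2) : Subgroup G) : Set G) := hgen hmem
          rw [sup_comm, Subgroup.coe_mul_of_left_le_normalizer_right _ _ hnorm] at hmem'
          obtain ⟨b', hb', r₀, hr₀, e⟩ := Set.mem_mul.1 hmem'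
          exact ⟨r₀, hr₀, b', hb', (s.top_commute_R t (hB hb') hr₀).eq.symm.trans e⟩
        have h5 : r₀ * r₀ = 1 := by
          rw [← e, show d.z * (r₀ * b') * d.z⁻¹ = (d.z * r₀ * d.z⁻¹) * (d.z * b' * d.z⁻¹) by group,
            (s.invR_acts hr₀).1, hBinv b' hb', mul_inv_rev,
            (s.top_commute_R t (hB hb') hr₀).inv_inv.eq] at hinv
          exact mul_eq_one_iff_eq_inv.2 (mul_right_cancel hinv)
        have h6 : r₀ = 1 := eq_one_of_sq_odd h5
          (s.ctx.invI_odd.of_dvd_nat (Subgroup.orderOf_dvd_natCard _ (s.invR_le hr₀)))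
        rw [← e, h6, one_mul]; exact hb'
    exact hle hx
  have hgA : g ∈ Subgroup.normalizer (A : Set G) := Subgroup.mem_normalizer_fintype fun x hx => by
    have hle : A ≤ A.comap (MulAut.conj g).toMonoidHom := sup_le
      (fun a ha => Subgroup.mem_sup_right (Subgroup.mem_sup_left ⟨hg0 ha.1, hgZ ha.2⟩))
      (sup_le (fun a ha => Subgroup.mem_sup_right (Subgroup.mem_sup_right ⟨hg1 ha.1, hgZ ha.2⟩))
        (fun a ha => Subgroup.mem_sup_left ⟨hg2 ha.1, hgZ ha.2⟩))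
    exact hle hx
  have hAbot := s.ctx.hyp.pair_trivial s.ctx.spec s.ctx.hq s.ctx.od
    ((s.top_odd t).of_dvd_nat (Subgroup.card_dvd_of_le hAP)) hDA s.ctx.hne s.ctx.hcm fun x hx =>
      mul_mem (mul_mem hgA (hDA hx)) (inv_mem hgA)
  refine le_antisymm (hgen.trans (sup_le le_rfl ?_)) (s.invR_le_top t)
  exact (le_sup_right : F1 ⊔ F2 ≤ A).trans (hAbot.le.trans bot_le)

end CfsgLib.RankTwoModel.L4
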