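import Cfsg.Agent.Lib.RankTwoModel.L4.W.Good

/-!
A root part is impossible: `P = R`.

* `D_le_of_roots`: a subgroup covering a root group of `SL₂` and its opposite contains `D`;
* `Std.root_group`: a root part puts a root group into the subgroup;
* `Std.no_root`, `Std.top_eq`.

Blueprint: `blueprint/RankTwo_L4W.md`, step 4.
-/

set_option autoImplicit false
set_option linter.unusedSectionVars false
set_option linter.style.haveILetI false

namespace CfsgLib.RankTwoModel.L4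

open Cfsg CfsgLib.BG CfsgLib.GW CfsgLib.BenderMax CfsgLib.RankTwoModel
open CfsgLib.RankTwoModel.Shape (ConjBy)
open scoped MatrixGroups

universe u

variable {G : Type u} [Group G] [Finite G] {d : Frame G}

local notation "SL[" d "]" => Matrix.SpecialLinearGroup (Fin 2) (Frame.F d)
local notation "M2[" d "]" => Matrix (Fin 2) (Fin 2) (Frame.F d)

/-- A subgroup covering a root group and its opposite contains `D`. -/
theorem D_le_of_roots {g : G} (c : Ctx d g) (ρ : Rep d) {g₁ : GL (Fin 2) d.F} {N : M2[d]} (hN : N ≠ 0)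
    (hNN : N * N = 0) (hgN : g₁.1 * N = -(N * g₁.1)) {w : G} (hw : w ∈ d.D)
    (hW : g₁.1 * (ρ.π ⟨w, c.spec.D_le_L c.hq hw⟩).1 = -((ρ.π ⟨w, c.spec.D_le_L c.hq hw⟩).1 * g₁.1))
    {K : Subgroup G}
    (hroots : ∀ x : d.F, ∃ (e : G) (he : e ∈ d.D), (ρ.π ⟨e, c.spec.D_le_L c.hq he⟩).1 = 1 + x • N ∧ e ∈ K ∧
      w * e * w⁻¹ ∈ K) : d.D ≤ K := by
  set H : Subgroup SL[d] := ((K ⊓ d.D).subgroupOf d.L).map ρ.π with hH
  have hmem : ∀ (a : G) (ha : a ∈ d.D), a ∈ K → ρ.π ⟨a, c.spec.D_le_L c.hq ha⟩ ∈ H := fun a ha haK =>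
    ⟨⟨a, c.spec.D_le_L c.hq ha⟩, ⟨haK, ha⟩, rfl⟩
  have htop : H = ⊤ := W.root_generate (SL2Orders.two_ne_zero_of_odd c.spec.odd_card) hN hNN hgN hW fun x => by
    obtain ⟨e, he, hπ, heK, hweK⟩ := hroots x
    refine ⟨_, hπ, hmem e he heK, ?_⟩
    have h1 := hmem _ (mul_mem (mul_mem hw he) (inv_mem hw)) hweK
    rwa [show (⟨w * e * w⁻¹, c.spec.D_le_L c.hq (mul_mem (mul_mem hw he) (inv_mem hw))⟩ : ↥d.L) =
      ⟨w, c.spec.D_le_L c.hq hw⟩ * ⟨e, c.spec.D_le_L c.hq he⟩ * ⟨w, c.spec.D_le_L c.hq hw⟩⁻¹ from rfl, map_mul,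
      map_mul, map_inv] at h1
  have hdec : ∀ a ∈ d.D, ∃ k ∈ K ⊓ d.D, ∃ o ∈ d.O, a = k * o := by
    intro a ha
    obtain ⟨⟨k, hkL⟩, hk, hπ⟩ : ρ.π ⟨a, c.spec.D_le_L c.hq ha⟩ ∈ H := htop ▸ Subgroup.mem_top _
    refine ⟨k, hk, k⁻¹ * a, (ρ.ker ((⟨k, hkL⟩ : ↥d.L)⁻¹ * ⟨a, c.spec.D_le_L c.hq ha⟩)).1 ?_,
      (mul_inv_cancel_left _ _).symm⟩
    rw [map_mul, map_inv, hπ, inv_mul_cancel]
  have hperf : ⁅d.D, d.D⁆ = d.D := by
    haveI := d.D_perfect
    have := congrArg (Subgroup.map d.D.subtype) (Group.IsPerfect.commutator_eq_top (G := ↥d.D))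
    rwa [Subgroup.map_subtype_commutator, ← MonoidHom.range_eq_map, Subgroup.range_subtype] at this
  rw [← hperf, Subgroup.commutator_le]
  intro a ha b hb
  obtain ⟨k, hk, o, ho, rfl⟩ := hdec a ha
  obtain ⟨k', hk', o', ho', rfl⟩ := hdec b hb
  have c1 : Commute o k := c.od o ho k hk.2
  have c2 : Commute o k' := c.od o ho k' hk'.2
  have c3 : Commute o' k := c.od o' ho' k hk.2
  have c4 : Commute o' k' := c.od o' ho' k' hk'.2
  have hoD : o' ∈ d.D := by simpa using Subgroup.mul_mem _ (Subgroup.inv_mem _ hk'.2) hb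
  have c5 : Commute o o' := c.od o ho o' hoD
  have e : k * o * (k' * o') * (k * o)⁻¹ * (k' * o')⁻¹ = k * k' * k⁻¹ * k'⁻¹ := by
    calc k * o * (k' * o') * (k * o)⁻¹ * (k' * o')⁻¹
        = k * (o * k') * o' * o⁻¹ * k⁻¹ * o'⁻¹ * k'⁻¹ := by group
      _ = k * (k' * o) * o' * o⁻¹ * k⁻¹ * o'⁻¹ * k'⁻¹ := by rw [c2.eq]
      _ = k * k' * (o * o' * o⁻¹) * k⁻¹ * o'⁻¹ * k'⁻¹ := by group
      _ = k * k' * o' * k⁻¹ * o'⁻¹ * k'⁻¹ := by rw [c5.eq, mul_inv_cancel_right]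
      _ = k * k' * (o' * k⁻¹) * o'⁻¹ * k'⁻¹ := by group
      _ = k * k' * (k⁻¹ * o') * o'⁻¹ * k'⁻¹ := by rw [c3.inv_right.eq]
      _ = _ := by group
  rw [commutatorElement_def, e]
  exact mul_mem (mul_mem (mul_mem hk.1 hk'.1) (inv_mem hk.1)) (inv_mem hk'.1)

variable {g : G} {r : ℕ} (s : Std d g r)
include s

theorem Std.Rc_map {k k₁ k₂ x : G} (e : k * (k₁ * d.z * k₁⁻¹) * k⁻¹ = k₂ * d.z * k₂⁻¹) (hx : x ∈ Rc d g r k₁) :
    k * x * k⁻¹ ∈ Rc d g r k₂ := by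
  rw [← s.Rc_eq (k := k * k₁) (k' := k₂) (by rw [← e]; group)]
  exact Rc_mul hx

theorem Std.invR_eq_Rc : invR d g r = Rc d g r 1 := (s.Rc_one (by simp)).symm

theorem Std.sigma_z (ρ : Rep d) : ρ.σ ⟨d.z, Frame.Spec.z_mem_C⟩ = 1 := MulEquiv.ext fun A => by
  rw [ρ.sigma_inner ⟨d.z, s.ctx.spec.z_mem_L⟩ A, ρ.pi_z s.ctx.spec]
  exact Subtype.ext (by simp [Matrix.SpecialLinearGroup.coe_neg])

/-- `u` acts as `v`. -/
theorem Std.conjBy_u (ρ : Rep d) {g₁ : GL (Fin 2) d.F}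
    (hg₁ : ConjBy (ρ.σ ⟨g⁻¹ * d.z * g, s.ctx.back_mem⟩) g₁) :
    ConjBy (ρ.σ ⟨inv2 d g, s.ctx.inv2_mem⟩) g₁ := by
  rw [show (⟨g⁻¹ * d.z * g, s.ctx.back_mem⟩ : ↥d.C) =
    ⟨d.z, Frame.Spec.z_mem_C⟩ * ⟨inv2 d g, s.ctx.inv2_mem⟩ from Subtype.ext s.back_eq, map_mul, s.sigma_z, one_mul]
    at hg₁
  exact hg₁

/-- The swap of `D` anticommutes with the involution. -/
theorem Std.swap_anti (ρ : Rep d) {g₁ : GL (Fin 2) d.F}
    (hg₁ : ConjBy (ρ.σ ⟨g⁻¹ * d.z * g, s.ctx.back_mem⟩) g₁) {w : G} (hw : w ∈ d.D)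
    (e : w * inv2 d g * w⁻¹ = d.z * inv2 d g) :
    g₁.1 * (ρ.π ⟨w, s.ctx.spec.D_le_L s.ctx.hq hw⟩).1 = -((ρ.π ⟨w, s.ctx.spec.D_le_L s.ctx.hq hw⟩).1 * g₁.1) := by
  set W := ρ.π ⟨w, s.ctx.spec.D_le_L s.ctx.hq hw⟩ with hW
  have hc := ρ.compat ⟨inv2 d g, s.ctx.inv2_mem⟩ ⟨w, s.ctx.spec.D_le_L s.ctx.hq hw⟩
  rw [← hW, show (⟨(inv2 d g) * w * (inv2 d g)⁻¹, d.L_conj s.ctx.inv2_mem (s.ctx.spec.D_le_L s.ctx.hq hw)⟩ : ↥d.L) =
      ⟨d.z, s.ctx.spec.z_mem_L⟩ * ⟨w, s.ctx.spec.D_le_L s.ctx.hq hw⟩ from Subtype.ext (by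
      show inv2 d g * w * (inv2 d g)⁻¹ = d.z * w
      rw [invol_inv s.ctx.inv2_order]
      calc inv2 d g * w * inv2 d g = inv2 d g * (w * inv2 d g * w⁻¹) * w := by group
        _ = inv2 d g * (inv2 d g * d.z) * w := by rw [e, s.zu_comm]
        _ = _ := by rw [← mul_assoc (inv2 d g), s.uu, one_mul]), map_mul, ρ.pi_z s.ctx.spec] at hc
  have h1 : g₁.1 * W.1 * (g₁⁻¹).1 = -W.1 := by
    rw [← s.conjBy_u ρ hg₁ W, hc, Matrix.SpecialLinearGroup.coe_mul, Matrix.SpecialLinearGroup.coe_neg,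
      Matrix.SpecialLinearGroup.coe_one, neg_mul, one_mul]
  calc g₁.1 * W.1 = g₁.1 * W.1 * (g₁⁻¹).1 * g₁.1 := by
        rw [Matrix.mul_assoc _ (g₁⁻¹).1, ← Units.val_mul, inv_mul_cancel, Units.val_one, Matrix.mul_one]
    _ = -(W.1 * g₁.1) := by rw [h1, Matrix.neg_mul]

/-- An element of `C` at `u` normalises what the torus normalises. -/
theorem Std.torus_fix {a : G} (ha : a ∈ d.C) (hav : a * (g⁻¹ * d.z * g) = g⁻¹ * d.z * g * a) :
    g * a * g⁻¹ * d.z * (g * a * g⁻¹)⁻¹ = d.z ∧ g * a * g⁻¹ * inv2 d g * (g * a * g⁻¹)⁻¹ = inv2 d g := by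
  constructor
  · calc g * a * g⁻¹ * d.z * (g * a * g⁻¹)⁻¹ = g * (a * (g⁻¹ * d.z * g)) * a⁻¹ * g⁻¹ := by group
      _ = g * (g⁻¹ * d.z * g * a) * a⁻¹ * g⁻¹ := by rw [hav]
      _ = _ := by group
  · show g * a * g⁻¹ * (g * d.z * g⁻¹) * (g * a * g⁻¹)⁻¹ = g * d.z * g⁻¹
    calc g * a * g⁻¹ * (g * d.z * g⁻¹) * (g * a * g⁻¹)⁻¹ = g * (a * d.z) * a⁻¹ * g⁻¹ := by group
      _ = g * (d.z * a) * a⁻¹ * g⁻¹ := by rw [Frame.Spec.z_central ha]
      _ = _ := by group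

/-- **A root part gives a root group.** -/
theorem Std.root_group (ρ : Rep d) {g₁ : GL (Fin 2) d.F}
    (hg₁ : ConjBy (ρ.σ ⟨g⁻¹ * d.z * g, s.ctx.back_mem⟩) g₁) {Q : Subgroup G}
    (hQ : ∀ a ∈ d.D, a * (g⁻¹ * d.z * g) = g⁻¹ * d.z * g * a → g * a * g⁻¹ ∈ Subgroup.normalizer (Q : Set G))
    {y : G} (hy : y ∈ Q) (hyu : y * inv2 d g = inv2 d g * y) (hpy : ∃ i : ℕ, y ^ r ^ i = 1) {N : M2[d]} {A : SL[d]}
    (hN : N ≠ 0) (hNN : N * N = 0) (hgN : g₁.1 * N = -(N * g₁.1)) (hA : A.1 = 1 + N)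
    (hσ : ρ.σ ⟨g⁻¹ * y * g, s.ctx.back_conj_mem hyu⟩ = MulAut.conj A) (x : d.F) :
    ∃ (e : G) (he : e ∈ d.D), (ρ.π ⟨e, s.ctx.spec.D_le_L s.ctx.hq he⟩).1 = 1 + x • N ∧ g * e * g⁻¹ ∈ Q := by
  have hd := s.ctx.spec
  have hq := s.ctx.hq
  haveI : Fact d.p.Prime := ⟨hd.prime⟩
  haveI := hd.charP
  obtain ⟨x₀, hx₀, hx₀A⟩ := ρ.surj_D hd hq A
  set y' := g⁻¹ * y * g with hy'
  have hy'C : y' ∈ d.C := s.ctx.back_conj_mem hyu
  set kc : ↥d.C := ⟨x₀, d.D_le hx₀⟩⁻¹ * ⟨y', hy'C⟩ with hkc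
  have hσk : ρ.σ kc = 1 := by
    rw [hkc, map_mul, map_inv, hσ, inv_mul_eq_one]
    exact MulEquiv.ext fun X => by
      rw [ρ.sigma_inner ⟨x₀, hd.D_le_L hq hx₀⟩ X, hx₀A]
      rfl
  have hcen := ρ.central_of_sigma hd hq s.ctx.hyp kc.2 hσk
  set f := QuotientGroup.mk' (oddCore ↥d.C)
  have hpow : ∀ n : ℕ, (A ^ n).1 = 1 + (n : d.F) • N := by
    intro n
    induction n with
    | zero => simp
    | succ n ih =>
      rw [pow_succ, Matrix.SpecialLinearGroup.coe_mul, ih, hA]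
      show (1 + (n : d.F) • N) * (1 + N) = _
      rw [Matrix.mul_add, Matrix.mul_one, Matrix.add_mul, Matrix.one_mul, Matrix.smul_mul, hNN, smul_zero, add_zero,
        Nat.cast_succ, add_smul, one_smul, add_assoc]
  have hxp : f ⟨x₀, d.D_le hx₀⟩ ^ d.p = 1 := by
    rw [← map_pow]
    refine (QuotientGroup.eq_one_iff _).2 ?_
    obtain ⟨o, ho, e⟩ := (ρ.ker ((⟨x₀, hd.D_le_L hq hx₀⟩ : ↥d.L) ^ d.p)).1 (by
      rw [map_pow, hx₀A]
      exact Subtype.ext (by rw [hpow, CharP.cast_eq_zero, zero_smul, add_zero]; rfl))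
    rwa [show (⟨x₀, d.D_le hx₀⟩ : ↥d.C) ^ d.p = o from Subtype.ext e.symm]
  have hkO : x₀⁻¹ * y' ∈ d.O := by
    have hyo : Odd (orderOf (f ⟨y', hy'C⟩)) := by
      obtain ⟨i, hi⟩ := hpy
      refine (s.odd_r.pow (n := i)).of_dvd_nat (orderOf_dvd_of_pow_eq_one ?_)
      rw [← map_pow, show (⟨y', hy'C⟩ : ↥d.C) ^ r ^ i = 1 from Subtype.ext (by
        show (g⁻¹ * y * g) ^ r ^ i = 1
        have e := conj_pow (i := r ^ i) (a := g⁻¹) (b := y)
        rw [inv_inv] at e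
        rw [e, hi, mul_one, inv_mul_cancel]), map_one]
    have hxo : Odd (orderOf (f ⟨x₀, d.D_le hx₀⟩)) :=
      (hd.prime.odd_of_ne_two hd.podd).of_dvd_nat (orderOf_dvd_of_pow_eq_one hxp)
    have hk : f kc = (f ⟨x₀, d.D_le hx₀⟩)⁻¹ * f ⟨y', hy'C⟩ := by rw [hkc, map_mul, map_inv]
    have hcom : Commute (f ⟨x₀, d.D_le hx₀⟩)⁻¹ (f ⟨y', hy'C⟩) := by
      refine Commute.inv_left ?_
      have h1 : Commute (f kc) (f ⟨x₀, d.D_le hx₀⟩) := (Subgroup.mem_center_iff.1 hcen _).symm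
      have h2 : f ⟨y', hy'C⟩ = f ⟨x₀, d.D_le hx₀⟩ * f kc := by rw [hk, mul_inv_cancel_left]
      rw [h2]
      exact (Commute.refl _).mul_right h1.symm
    have h1 : f kc = 1 := Frame.central_odd hcen (by
      rw [hk]
      exact (hxo.mul hyo).of_dvd_nat ((hcom.orderOf_mul_dvd_lcm).trans (by rw [orderOf_inv]; exact Nat.lcm_dvd_mul _ _)))
    exact ⟨kc, (QuotientGroup.eq_one_iff _).1 h1, rfl⟩
  set H : Subgroup SL[d] := ((Q.comap (MulAut.conj g).toMonoidHom ⊓ d.D).subgroupOf d.L).map ρ.π with hH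
  have hlift : ∀ B : SL[d], Commute B.1 g₁.1 → ∃ (a : G) (ha : a ∈ d.D), ρ.π ⟨a, hd.D_le_L hq ha⟩ = B ∧
      g * a * g⁻¹ ∈ Subgroup.normalizer (Q : Set G) := fun B hB => by
    obtain ⟨a, ha, haB, hav⟩ := ρ.lift_fixed_D hd hq s.ctx.back_mem (invol_mul_self s.ctx.back_order)
      (sigma_fixed ρ s.ctx.back_mem hg₁ hB)
    exact ⟨a, ha, haB, hQ a ha hav⟩
  obtain ⟨U, hU, ⟨a, haL⟩, ⟨haQ, haD⟩, hπ⟩ := W.root_full (SL2Orders.two_ne_zero_of_odd hd.odd_card)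
    (hd.three_lt hq) hN hNN hgN (H := H) (U₀ := A) (x := x) (by
      rintro B hB _ ⟨⟨e, heL⟩, ⟨heQ, heD⟩, rfl⟩ -
      obtain ⟨a, ha, haB, haQ⟩ := hlift B hB
      refine ⟨⟨a, hd.D_le_L hq ha⟩ * ⟨e, heL⟩ * ⟨a, hd.D_le_L hq ha⟩⁻¹, ⟨?_, ?_⟩, by
        rw [map_mul, map_mul, map_inv, haB]⟩
      · show g * (a * e * a⁻¹) * g⁻¹ ∈ Q
        rw [show g * (a * e * a⁻¹) * g⁻¹ = (g * a * g⁻¹) * (g * e * g⁻¹) * (g * a * g⁻¹)⁻¹ by group]
        exact (Subgroup.mem_normalizer_iff.1 haQ _).1 heQ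
      · exact Subgroup.mul_mem _ (Subgroup.mul_mem _ ha heD) (Subgroup.inv_mem _ ha)) hA (fun B hB => by
      obtain ⟨a, ha, haB, haQ⟩ := hlift B hB
      refine ⟨⟨a, hd.D_le_L hq ha⟩ * ⟨x₀, hd.D_le_L hq hx₀⟩ * ⟨a, hd.D_le_L hq ha⟩⁻¹ *
        ⟨x₀, hd.D_le_L hq hx₀⟩⁻¹, ⟨?_, ?_⟩, by rw [map_mul, map_mul, map_mul, map_inv, map_inv, haB, hx₀A]⟩
      · show g * (a * x₀ * a⁻¹ * x₀⁻¹) * g⁻¹ ∈ Q
        have c1 : Commute (x₀⁻¹ * y') a := s.ctx.od _ hkO a ha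
        have c2 : Commute (x₀⁻¹ * y') x₀ := s.ctx.od _ hkO x₀ hx₀
        have e : a * x₀ * a⁻¹ * x₀⁻¹ = a * y' * a⁻¹ * y'⁻¹ := by
          calc a * x₀ * a⁻¹ * x₀⁻¹ = a * x₀ * (a⁻¹ * (x₀⁻¹ * y')) * (x₀ * (x₀⁻¹ * y'))⁻¹ := by group
            _ = a * x₀ * ((x₀⁻¹ * y') * a⁻¹) * (x₀ * (x₀⁻¹ * y'))⁻¹ := by rw [c1.inv_right.eq]
            _ = _ := by group
        rw [e, hy', show g * (a * (g⁻¹ * y * g) * a⁻¹ * (g⁻¹ * y * g)⁻¹) * g⁻¹ =
          (g * a * g⁻¹) * y * (g * a * g⁻¹)⁻¹ * y⁻¹ by group]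
        exact mul_mem ((Subgroup.mem_normalizer_iff.1 haQ y).1 hy) (inv_mem hy)
      · exact Subgroup.mul_mem _ (Subgroup.mul_mem _ (Subgroup.mul_mem _ ha hx₀) (Subgroup.inv_mem _ ha))
          (Subgroup.inv_mem _ hx₀))
  exact ⟨a, haD, hπ ▸ hU, haQ⟩

variable {P : Subgroup G} (t : Top d g r P)
include t

/-- An element fixing `z` and `u` normalises `P`. -/
theorem Std.top_conj_fix {k : G} (hz : k * d.z * k⁻¹ = d.z) (hu : k * inv2 d g * k⁻¹ = inv2 d g) :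
    k ∈ Subgroup.normalizer (P : Set G) := by
  refine s.top_conj t (s.ctx.invR_normal (Subgroup.mem_centralizer_singleton_iff.2 (mul_inv_eq_iff_eq_mul.1 hz)))
    (Subgroup.mem_normalizer_fintype fun x hx => ?_)
  have hle : four d.z (inv2 d g) ≤ (four d.z (inv2 d g)).comap (MulAut.conj k).toMonoidHom :=
    four_le (show k * d.z * k⁻¹ ∈ four d.z (inv2 d g) by rw [hz]; exact left_mem_four _ _)
      (show k * inv2 d g * k⁻¹ ∈ four d.z (inv2 d g) by rw [hu]; exact right_mem_four _ _)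
  exact hle hx

/-- **No element of `C_P(u)` has a root part.** -/
theorem Std.no_root {y : G} (hy : y ∈ P) (hyu : y * inv2 d g = inv2 d g * y) : g⁻¹ * y * g ∈ d.O := by
  classical
  by_contra hroot
  haveI := Fact.mk s.prime
  have hd := s.ctx.spec
  have hq := s.ctx.hq
  haveI : Fact d.p.Prime := ⟨hd.prime⟩
  haveI := hd.charP
  have h2 := SL2Orders.two_ne_zero_of_odd hd.odd_card
  obtain ⟨ρ⟩ := hd.exists_rep
  obtain ⟨g₁, htr, hns, hg₁⟩ := ρ.invol hd hq s.ctx.hyp s.ctx.back_mem s.ctx.back_order s.ctx.back_ne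
  obtain ⟨-, N, A, hN, hNN, hgN, hA, hσ⟩ := (s.top_shape t ρ hns hg₁ hy hyu).resolve_left hroot
  obtain ⟨w, hw, e1, e2⟩ := s.swap
  have hW := s.swap_anti ρ hg₁ hw e1
  have hR := s.invR_eq_Rc
  -- the torus at `u` normalises `P`
  have htP : ∀ a ∈ d.D, a * (g⁻¹ * d.z * g) = g⁻¹ * d.z * g * a → g * a * g⁻¹ ∈ Subgroup.normalizer (P : Set G) :=
    fun a ha hav => s.top_conj_fix t (s.torus_fix (d.D_le ha) hav).1 (s.torus_fix (d.D_le ha) hav).2
  have hpP : ∀ x ∈ P, ∃ i : ℕ, x ^ r ^ i = 1 := fun x hx => by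
    obtain ⟨i, hi⟩ := t.pgroup ⟨x, hx⟩
    exact ⟨i, by simpa using congrArg Subtype.val hi⟩
  have hroots := s.root_group ρ hg₁ (Q := P) htP hy hyu (hpP y hy) hN hNN hgN hA hσ
  -- the root group and its centraliser
  set X1 := d.D.map (MulAut.conj g).toMonoidHom ⊓ P with hX1
  set M := Subgroup.centralizer (X1 : Set G) with hM
  have hX1u : ∀ x ∈ X1, x * inv2 d g = inv2 d g * x := by
    rintro _ ⟨⟨a, ha, rfl⟩, -⟩
    show g * a * g⁻¹ * (g * d.z * g⁻¹) = g * d.z * g⁻¹ * (g * a * g⁻¹)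
    calc g * a * g⁻¹ * (g * d.z * g⁻¹) = g * (a * d.z) * g⁻¹ := by group
      _ = g * (d.z * a) * g⁻¹ := by rw [Frame.Spec.z_central (d.D_le ha)]
      _ = _ := by group
  have huM : inv2 d g ∈ M := Subgroup.mem_centralizer_iff.2 hX1u
  have hzM : d.z ∈ Subgroup.normalizer (M : Set G) := Subgroup.mem_normalizer_fintype fun m hm =>
    Subgroup.mem_centralizer_iff.2 fun x hx => by
      have hx' := s.top_inverted t hx.2 (Or.inl (hX1u x hx))
      have h1 : Commute x⁻¹ m := (show Commute x m from Subgroup.mem_centralizer_iff.1 hm x hx).inv_left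
      rw [← hx'] at h1
      have h3 := (Commute.conj_iff d.z).2 h1
      rw [show d.z * (d.z * x * d.z⁻¹) * d.z⁻¹ = (d.z * d.z) * x * (d.z * d.z)⁻¹ by group, s.zz, one_mul, inv_one,
        mul_one] at h3
      exact h3.eq
  have hRM : invR d g r ≤ M := fun x hx => Subgroup.mem_centralizer_iff.2 fun a ha =>
    (s.top_commute_R t ha.2 hx).eq
  have hR1M : Rc d g r g ≤ M := fun x hx => Subgroup.mem_centralizer_iff.2 fun a ha => by
    obtain ⟨⟨e, he, rfl⟩, -⟩ := ha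
    have h1 := (Commute.conj_iff g).2 (show Commute (g⁻¹ * x * g) e from
      s.ctx.od _ (s.ctx.invI_le (s.invR_le (mem_Rc.1 hx))) e he)
    rw [show g * (g⁻¹ * x * g) * g⁻¹ = x by group] at h1
    exact h1.symm.eq
  -- `u` is isolated in `M`
  set uu : ↥M := ⟨inv2 d g, huM⟩ with huu
  have hiso : IsIsolated uu := by
    intro m hm
    obtain ⟨e, he, hπe, heP⟩ := hroots 1
    rw [one_smul] at hπe
    set v₁ := (m : G) * inv2 d g * (m : G)⁻¹ with hv₁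
    have hv₁u : v₁ * inv2 d g = inv2 d g * v₁ := (congrArg Subtype.val hm.eq).symm
    have hv₁x : Commute (g * e * g⁻¹) v₁ :=
      Subgroup.mem_centralizer_iff.1 (m * uu * m⁻¹).2 _ ⟨⟨e, he, rfl⟩, heP⟩
    set v₂ := g⁻¹ * v₁ * g with hv₂
    have hv₂C : v₂ ∈ d.C := s.ctx.back_conj_mem hv₁u
    have hv₂o : orderOf v₂ = 2 := by
      rw [hv₂, show orderOf (g⁻¹ * v₁ * g) = orderOf v₁ by simpa using orderOf_cj g⁻¹ v₁, hv₁, orderOf_cj]
      exact s.ctx.inv2_order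
    have hv₂z : v₂ = d.z := by
      by_contra hne
      obtain ⟨g', htr', hns', hg'⟩ := ρ.invol hd hq s.ctx.hyp hv₂C hv₂o hne
      have hfix : ρ.σ ⟨v₂, hv₂C⟩ (ρ.π ⟨e, hd.D_le_L hq he⟩) = ρ.π ⟨e, hd.D_le_L hq he⟩ := by
        rw [ρ.compat]
        congr 1
        refine Subtype.ext (mul_inv_eq_iff_eq_mul.2 ?_)
        show g⁻¹ * v₁ * g * e = e * (g⁻¹ * v₁ * g)
        calc g⁻¹ * v₁ * g * e = g⁻¹ * (v₁ * (g * e * g⁻¹)) * g := by group
          _ = g⁻¹ * (g * e * g⁻¹ * v₁) * g := by rw [hv₁x.eq]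
          _ = _ := by group
      have h1 := sigma_commute ρ hv₂C hg' hfix
      rw [hπe] at h1
      have h3 := h1.sub_left (Commute.one_left g'.1)
      rw [add_sub_cancel_left] at h3
      exact W.no_unipotent_torus h2 htr' hN hNN h3.symm
    refine Subtype.ext ?_
    show v₁ = g * d.z * g⁻¹
    rw [← hv₂z, hv₂]
    group
  -- the odd subgroup containing `R` and its conjugate
  set XM := oddCore ↥M with hXM
  set W₀ := (Rc d g r g).subgroupOf M ⊔ XM with hW₀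
  set W₁ := W₀.map M.subtype with hW₁
  have hRodd : Odd (Nat.card (Rc d g r g)) := by
    rw [Rc, Subgroup.card_map_of_injective (MulAut.conj g).injective]
    exact s.ctx.invI_odd.of_dvd_nat (Subgroup.card_dvd_of_le s.invR_le)
  have hWodd : Odd (Nat.card W₁) := by
    rw [hW₁, Subgroup.card_map_of_injective (Subgroup.subtype_injective _)]
    refine (Odd.mul ?_ CfsgLib.odd_card_oddCore).of_dvd_nat (CfsgLib.card_sup_dvd_mul _ _)
    rwa [Nat.card_congr (Subgroup.subgroupOfEquivOfLe hR1M).toEquiv]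
  have hR1W : Rc d g r g ≤ W₁ := fun x hx => ⟨⟨x, hR1M hx⟩, Subgroup.mem_sup_left hx, rfl⟩
  have hRW : invR d g r ≤ W₁ := by
    intro x hx
    have hinv := (s.invR_acts hx).2.1
    have h1 := CfsgLib.ZStar.commutator_mem (u := uu) (by
      rw [← Subgroup.orderOf_coe]; exact s.ctx.inv2_order) hiso ⟨x, hRM hx⟩
    have h3 := inv_mem h1
    rw [show uu * (⟨x, hRM hx⟩ : ↥M) * uu⁻¹ = (⟨x, hRM hx⟩ : ↥M)⁻¹ from Subtype.ext hinv, ← mul_inv_rev, inv_inv,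
      ← pow_two] at h3
    obtain ⟨j, hj⟩ : Odd (orderOf (⟨x, hRM hx⟩ : ↥M)) := by
      rw [Subgroup.orderOf_mk]
      exact s.ctx.invI_odd.of_dvd_nat (Subgroup.orderOf_dvd_natCard _ (s.invR_le hx))
    have h4 := pow_mem h3 (j + 1)
    rw [← pow_mul, show 2 * (j + 1) = orderOf (⟨x, hRM hx⟩ : ↥M) + 1 by omega, pow_succ, pow_orderOf_eq_one,
      one_mul] at h4
    exact ⟨⟨x, hRM hx⟩, Subgroup.mem_sup_right h4, rfl⟩
  have hfour : four d.z (inv2 d g) ≤ Subgroup.normalizer (W₁ : Set G) := by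
    have hN1 : ∀ k : G, k * inv2 d g * k⁻¹ = inv2 d g → k ∈ Subgroup.normalizer (M : Set G) →
        k ∈ Subgroup.normalizer (W₁ : Set G) := by
      intro k hk hkM
      refine Subgroup.mem_normalizer_fintype fun x hx => ?_
      have hXk : k ∈ Subgroup.normalizer ((XM.map M.subtype : Subgroup G) : Set G) :=
        (CfsgLib.le_normalizer_map_characteristic (A := Subgroup.zpowers k) (Subgroup.zpowers_le.2 hkM) XM).1
          (Subgroup.mem_zpowers k)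
      have hle : W₁ ≤ W₁.comap (MulAut.conj k).toMonoidHom := by
        rw [hW₁, hW₀, Subgroup.map_sup]
        refine sup_le ?_ ?_
        · rintro _ ⟨a, ha, rfl⟩
          refine Subgroup.mem_sup_left ?_
          have h1 := s.Rc_map (k := k) (k₁ := g) (k₂ := g) hk (show (a : G) ∈ Rc d g r g from ha)
          exact ⟨⟨_, hR1M h1⟩, h1, rfl⟩
        · intro a ha
          exact Subgroup.mem_sup_right ((Subgroup.mem_normalizer_iff.1 hXk a).1 ha)
      exact hle hx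
    refine four_le (hN1 _ (mul_inv_eq_iff_eq_mul.2 s.zu_comm) hzM) (hN1 _ (mul_inv_cancel_right _ _) ?_)
    exact Subgroup.le_normalizer huM
  have hcop : (Nat.card (four d.z (inv2 d g))).Coprime (Nat.card W₁) := by
    rw [(isKleinFour_four hd.zord s.ctx.inv2_order s.zu_comm s.ctx.inv2_ne).card_four]
    exact Nat.Coprime.pow_left 2 (Nat.coprime_two_left.2 hWodd)
  have hsolv : Group.IsSolvable ↥(four d.z (inv2 d g)) := Group.isSolvable_of_comm fun a b =>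
    Subtype.ext (four_comm hd.zord s.ctx.inv2_order s.zu_comm s.ctx.inv2_ne a.2 b.2)
  have hnR : ∀ k : G, k * d.z * k⁻¹ = d.z → ∀ x ∈ invR d g r, k * x * k⁻¹ ∈ invR d g r := fun k hk x hx =>
    s.ctx.invR_conj (Subgroup.mem_centralizer_singleton_iff.2 (mul_inv_eq_iff_eq_mul.1 hk)) hx
  have hnR1 : ∀ k : G, k * inv2 d g * k⁻¹ = inv2 d g → ∀ x ∈ Rc d g r g, k * x * k⁻¹ ∈ Rc d g r g :=
    fun k hk x hx => s.Rc_map hk hx
  have hUR : four d.z (inv2 d g) ≤ Subgroup.normalizer (invR d g r : Set G) :=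
    four_le (s.ctx.invR_normal Frame.Spec.z_mem_C) (s.ctx.invR_normal s.ctx.inv2_mem)
  have hUR1 : four d.z (inv2 d g) ≤ Subgroup.normalizer (Rc d g r g : Set G) :=
    four_le (Subgroup.mem_normalizer_fintype (hnR1 _ (mul_inv_eq_iff_eq_mul.2 s.zu_comm)))
      (Subgroup.mem_normalizer_fintype (hnR1 _ (mul_inv_cancel_right _ _)))
  set J := invR d g r ⊔ Rc d g r g with hJ
  have hJM : J ≤ M := sup_le hRM hR1M
  have hJp : IsPGroup r J := by
    obtain ⟨Sa, hSa, hSaU⟩ := CfsgLib.coprime_le_invariant_sylow hfour hcop (Or.inl hsolv) hRW s.invR_pgroup hUR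
    obtain ⟨Sb, hSb, hSbU⟩ := CfsgLib.coprime_le_invariant_sylow hfour hcop (Or.inl hsolv) hR1W
      (s.invR_pgroup.map _) hUR1
    obtain ⟨k, hk, e⟩ := CfsgLib.coprime_invariant_sylow_conj hfour hcop (Or.inl hsolv) Sa Sb hSaU hSbU
    have hkz : (k : G) * d.z * (k : G)⁻¹ = d.z :=
      mul_inv_eq_iff_eq_mul.2 (Subgroup.mem_centralizer_iff.1 hk _ (left_mem_four _ _)).symm
    refine (Sb.2.map W₁.subtype).to_le (sup_le (fun x hx => ?_) hSb)
    have h1 : (k : G)⁻¹ * x * k ∈ invR d g r := by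
      have := hnR (k : G)⁻¹ (by
        have h0 := congrArg (fun a => (k : G)⁻¹ * a * k) hkz
        rw [show (k : G)⁻¹ * ((k : G) * d.z * (k : G)⁻¹) * k = d.z by group] at h0
        rw [inv_inv]; exact h0.symm) x hx
      simpa using this
    obtain ⟨a, ha, hax⟩ := hSa h1
    have hka : MulAut.conj k a ∈ (Sb : Subgroup ↥W₁) := by
      rw [← e]; exact ⟨a, ha, rfl⟩
    refine ⟨_, hka, ?_⟩
    show (k : G) * (a : G) * (k : G)⁻¹ = x
    rw [show (a : G) = (k : G)⁻¹ * x * k from hax]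
    group
  have hJodd : Odd (Nat.card J) := by
    obtain ⟨n, hn⟩ := hJp.exists_card_eq
    rw [hn]; exact s.odd_r.pow
  -- `C_J(U) = 1`
  have hJfix : ∀ x ∈ J, x * d.z = d.z * x → x * inv2 d g = inv2 d g * x → x = 1 := by
    intro x hx hxz hxu
    set c' := g⁻¹ * x * g with hc'
    have hc'C : c' ∈ d.C := s.ctx.back_conj_mem hxu
    have hfix : ∀ a : d.F, ∃ U : SL[d], U.1 = 1 + a • N ∧ ρ.σ ⟨c', hc'C⟩ U = U := fun a => by
      obtain ⟨e, he, hπ, heP⟩ := hroots a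
      refine ⟨_, hπ, ?_⟩
      rw [ρ.compat]
      congr 1
      refine Subtype.ext (mul_inv_eq_iff_eq_mul.2 ?_)
      have h1 : g * e * g⁻¹ * x = x * (g * e * g⁻¹) :=
        Subgroup.mem_centralizer_iff.1 (hJM hx) _ ⟨⟨e, he, rfl⟩, heP⟩
      show g⁻¹ * x * g * e = e * (g⁻¹ * x * g)
      calc g⁻¹ * x * g * e = g⁻¹ * (x * (g * e * g⁻¹)) * g := by group
        _ = g⁻¹ * (g * e * g⁻¹ * x) * g := by rw [h1]
        _ = _ := by group
    obtain ⟨h, ε, hε⟩ := SL2.exists_semi d.p (hd.three_lt hq) (ρ.σ ⟨c', hc'C⟩)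
    have hM1 : (1 : M2[d]).map ε = 1 := Matrix.map_one _ (map_zero ε) (map_one ε)
    have hsm : ∀ a : d.F, ε a • (h.1 * N.map ε * (h⁻¹).1) = a • N := fun a => by
      obtain ⟨U, hU, hfixU⟩ := hfix a
      have h3 := hε U
      rw [hfixU, hU, Matrix.map_add _ (map_add ε), hM1, show (a • N).map ε = ε a • N.map ε from
        Matrix.ext fun i j => by simp, Matrix.mul_add, Matrix.add_mul, Matrix.mul_one, ← Units.val_mul,
        mul_inv_cancel, Units.val_one, Matrix.mul_smul, Matrix.smul_mul] at h3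
      exact (add_left_cancel h3).symm
    have hε1 : ε = RingEquiv.refl d.F := RingEquiv.ext fun a => by
      have h1 := hsm 1
      rw [map_one, one_smul, one_smul] at h1
      have h3 := hsm a
      rw [h1] at h3
      exact smul_left_injective d.F hN h3
    have hconj : ConjBy (ρ.σ ⟨c', hc'C⟩) h := fun B => by
      rw [hε B, hε1]; rfl
    have hhg : Commute h.1 g₁.1 := ρ.commute_of_comm hd hq s.ctx.hyp hc'C s.ctx.back_mem (by
      calc g⁻¹ * x * g * (g⁻¹ * d.z * g) = g⁻¹ * (x * d.z) * g := by group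
        _ = g⁻¹ * (d.z * x) * g := by rw [hxz]
        _ = _ := by rw [hc']; group) hconj hg₁
    have hhN : h.1 * N * (h⁻¹).1 = N := by
      have h1 := hsm 1
      rwa [hε1, map_one, one_smul, one_smul, show N.map (RingEquiv.refl d.F) = N from Matrix.ext fun _ _ => rfl] at h1
    obtain ⟨a, b, hab⟩ := SL2Centralizer.exists_of_commute hns hhg
    have hb : b = 0 := by
      have h1 : h.1 * N = N * h.1 := by
        conv_rhs => rw [← hhN]
        rw [Matrix.mul_assoc _ (h⁻¹).1, ← Units.val_mul, inv_mul_cancel, Units.val_one, Matrix.mul_one]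
      rw [hab, Matrix.add_mul, Matrix.mul_add, Matrix.smul_mul, Matrix.mul_smul, Matrix.smul_mul, Matrix.mul_smul,
        Matrix.one_mul, Matrix.mul_one, add_right_inj, hgN, smul_neg] at h1
      have h3 : (2 * b) • (N * g₁.1) = 0 := by rw [two_mul, add_smul]; nth_rewrite 1 [← h1]; exact neg_add_cancel _
      rcases smul_eq_zero.1 h3 with h4 | h4
      · exact (mul_eq_zero.1 h4).resolve_left h2
      · refine absurd ?_ hN
        calc N = N * g₁.1 * (g₁⁻¹).1 := by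
              rw [Matrix.mul_assoc, ← Units.val_mul, mul_inv_cancel, Units.val_one, Matrix.mul_one]
          _ = 0 := by rw [h4, Matrix.zero_mul]
    rw [hb, zero_smul, add_zero] at hab
    obtain ⟨i, hi⟩ := hJp ⟨x, hx⟩
    have hxi : x ^ r ^ i = 1 := by simpa using congrArg Subtype.val hi
    have hc'i : c' ^ r ^ i = 1 := by
      have e := conj_pow (i := r ^ i) (a := g⁻¹) (b := x)
      rw [inv_inv] at e
      rw [hc', e, hxi, mul_one, inv_mul_cancel]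
    have hc'O : c' ∈ d.O := ρ.sigma_eq_one hd hq s.ctx.hyp hc'C
      ((s.odd_r.pow (n := i)).of_dvd_nat (orderOf_dvd_of_pow_eq_one hc'i)) (conjBy_scalar hconj hab)
    have hc'u : c' * inv2 d g = inv2 d g * c' := by
      have h1 : c' * (d.z * inv2 d g) = d.z * inv2 d g * c' := by
        rw [← s.back_eq]
        calc g⁻¹ * x * g * (g⁻¹ * d.z * g) = g⁻¹ * (x * d.z) * g := by group
          _ = g⁻¹ * (d.z * x) * g := by rw [hxz]
          _ = _ := by rw [hc']; group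
      have h3 := ((show Commute c' d.z from Frame.Spec.z_central hc'C).mul_right h1).eq
      rwa [s.z_conj_zz] at h3
    have hc'1 : c' = 1 := by
      by_contra hne
      have hcp : IsPGroup r (Subgroup.zpowers c') := by
        obtain ⟨m, -, hm⟩ := (Nat.dvd_prime_pow s.prime).1 (orderOf_dvd_of_pow_eq_one hc'i)
        exact IsPGroup.of_card (n := m) (by rw [Nat.card_zpowers, hm])
      have hle : Subgroup.zpowers c' ≤ Subgroup.normalizer (invR d g r : Set G) :=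
        Subgroup.zpowers_le.2 (s.ctx.invR_normal hc'C)
      have hS : IsPGroup r (Subgroup.zpowers c' ⊔ invR d g r : Subgroup G) :=
        hcp.to_sup_of_normal_right' s.invR_pgroup hle
      obtain ⟨y₀, hy₀, hy₀o, hy₀c⟩ := CfsgLib.Comp.exists_central_in_normal (p := r) hS
        (le_sup_right : invR d g r ≤ _) (sup_le hle Subgroup.le_normalizer)
        (fun e => by obtain ⟨a, ha, ha1⟩ := s.exists_ne; rw [e, Subgroup.mem_bot] at ha; exact ha1 ha)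
      have := s.ctx.fpf hc'O hc'u hne (s.invR_le hy₀) (hy₀c c' (Subgroup.mem_sup_left (Subgroup.mem_zpowers _)))
      rw [this, orderOf_one] at hy₀o
      exact s.prime.ne_one hy₀o.symm
    calc x = g * c' * g⁻¹ := by rw [hc']; group
      _ = 1 := by rw [hc'1, mul_one, mul_inv_cancel]
  -- `z u` inverts `J`
  have hJn : ∀ k : G, (k * d.z * k⁻¹ = d.z ∧ k * inv2 d g * k⁻¹ = inv2 d g) ∨
      (k * d.z * k⁻¹ = inv2 d g ∧ k * inv2 d g * k⁻¹ = d.z) → ∀ x ∈ J, k * x * k⁻¹ ∈ J := by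
    intro k hk x hx
    have hle : J ≤ J.comap (MulAut.conj k).toMonoidHom := by
      rcases hk with ⟨k1, k2⟩ | ⟨k1, k2⟩
      · exact sup_le (fun a ha => Subgroup.mem_sup_left (hnR k k1 a ha))
          fun a ha => Subgroup.mem_sup_right (hnR1 k k2 a ha)
      · refine sup_le (fun a ha => Subgroup.mem_sup_right ?_) fun a ha => Subgroup.mem_sup_left ?_
        · rw [hR] at ha
          exact s.Rc_map (k := k) (k₁ := 1) (k₂ := g) (by rw [one_mul, inv_one, mul_one, k1]; rfl) ha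
        · show k * a * k⁻¹ ∈ invR d g r
          rw [hR]
          exact s.Rc_map (k := k) (k₁ := g) (k₂ := 1) (by rw [one_mul, inv_one, mul_one]; exact k2) ha
    exact hle hx
  have hJz : d.z ∈ Subgroup.normalizer (J : Set G) :=
    Subgroup.mem_normalizer_fintype (hJn _ (Or.inl ⟨mul_inv_cancel_right _ _, mul_inv_eq_iff_eq_mul.2 s.zu_comm⟩))
  have hJzu : d.z * inv2 d g ∈ Subgroup.normalizer (J : Set G) := Subgroup.mem_normalizer_fintype (hJn _
    (Or.inl ⟨mul_inv_eq_iff_eq_mul.2 (Frame.Spec.z_central s.zu_mem),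
      mul_inv_eq_iff_eq_mul.2 (by rw [← mul_assoc (inv2 d g), ← s.zu_comm])⟩))
  set CJ := J ⊓ Subgroup.centralizer ({d.z * inv2 d g} : Set G) with hCJ
  have hCJinv : ∀ x ∈ CJ, d.z * x * d.z⁻¹ = x⁻¹ := by
    intro x hx
    have hn : d.z ∈ Subgroup.normalizer (CJ : Set G) := Subgroup.mem_normalizer_fintype fun a ha => by
      refine ⟨(Subgroup.mem_normalizer_iff.1 hJz a).1 ha.1, ?_⟩
      have hz : d.z ∈ Subgroup.centralizer ({d.z * inv2 d g} : Set G) :=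
        Subgroup.mem_centralizer_singleton_iff.2 (Frame.Spec.z_central s.zu_mem).symm
      exact Subgroup.mul_mem _ (Subgroup.mul_mem _ hz ha.2) (Subgroup.inv_mem _ hz)
    obtain ⟨a, ha, b, -, hza, hzb, e⟩ := exists_fixed_mul_inverted
      (hJodd.of_dvd_nat (Subgroup.card_dvd_of_le inf_le_left)) hn s.zz hx
    have haz := (mul_inv_eq_iff_eq_mul.1 hza).symm
    have hau := ((show Commute a d.z from haz).mul_right
      (show Commute a (d.z * inv2 d g) from Subgroup.mem_centralizer_singleton_iff.1 ha.2)).eq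
    rw [s.z_conj_zz] at hau
    rw [e, hJfix a ha.1 haz hau, one_mul]
    exact hzb
  have hCJcomm : ∀ x ∈ CJ, ∀ x' ∈ CJ, Commute x x' := fun x hx x' hx' => by
    have h1 := hCJinv _ (mul_mem hx hx')
    rw [show d.z * (x * x') * d.z⁻¹ = (d.z * x * d.z⁻¹) * (d.z * x' * d.z⁻¹) by group, hCJinv x hx, hCJinv x' hx',
      mul_inv_rev] at h1
    exact Commute.inv_inv_iff.1 h1
  have hgg : inv2 d (g * g) = d.z * inv2 d g := s.gg_z
  have c2 : Ctx d (g * g) :=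
    { hyp := s.ctx.hyp, spec := hd, hq := hq, od := s.ctx.od
      hne := by
        rw [s.gg_z]
        intro e
        exact BG.ne_one_of_invol s.ctx.inv2_order (mul_eq_left.1 e)
      hcm := by rw [s.gg_z]; exact Frame.Spec.z_central s.zu_mem }
  have hback2 : (g * g)⁻¹ * d.z * (g * g) = inv2 d g := by
    rw [show (g * g)⁻¹ * d.z * (g * g) = g⁻¹ * (g⁻¹ * d.z * g) * g by group, s.back_eq, ← s.gu]
    group
  have hg₂ : ConjBy (ρ.σ ⟨(g * g)⁻¹ * d.z * (g * g), c2.back_mem⟩) g₁ := by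
    rw [show (⟨(g * g)⁻¹ * d.z * (g * g), c2.back_mem⟩ : ↥d.C) = ⟨inv2 d g, s.ctx.inv2_mem⟩ from Subtype.ext hback2]
    exact s.conjBy_u ρ hg₁
  have hggzu : g * g * (d.z * inv2 d g) * (g * g)⁻¹ = inv2 d g := by
    calc g * g * (d.z * inv2 d g) * (g * g)⁻¹ = g * (g * (d.z * inv2 d g) * g⁻¹) * g⁻¹ := by group
      _ = g * d.z * g⁻¹ := by rw [s.gzu]
      _ = inv2 d g := rfl
  have hggu : g * g * inv2 d g * (g * g)⁻¹ = d.z := by
    calc g * g * inv2 d g * (g * g)⁻¹ = g * (g * inv2 d g * g⁻¹) * g⁻¹ := by group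
      _ = d.z := by rw [s.gu, s.gzu]
  set m₂ := g * g * w * (g * g)⁻¹ with hm₂
  have hm₂z : m₂ * d.z * m₂⁻¹ = inv2 d g := by
    nth_rewrite 1 [← hggu]
    rw [hm₂, show g * g * w * (g * g)⁻¹ * (g * g * inv2 d g * (g * g)⁻¹) * (g * g * w * (g * g)⁻¹)⁻¹ =
      g * g * (w * inv2 d g * w⁻¹) * (g * g)⁻¹ by group, e1, hggzu]
  have hm₂u : m₂ * inv2 d g * m₂⁻¹ = d.z := by
    nth_rewrite 1 [← hggzu]
    rw [hm₂, show g * g * w * (g * g)⁻¹ * (g * g * (d.z * inv2 d g) * (g * g)⁻¹) * (g * g * w * (g * g)⁻¹)⁻¹ =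
      g * g * (w * (d.z * inv2 d g) * w⁻¹) * (g * g)⁻¹ by group, e2, hggu]
  have hm₂C : m₂ * (d.z * inv2 d g) * m₂⁻¹ = d.z * inv2 d g := by
    rw [show m₂ * (d.z * inv2 d g) * m₂⁻¹ = (m₂ * d.z * m₂⁻¹) * (m₂ * inv2 d g * m₂⁻¹) by group, hm₂z, hm₂u,
      s.zu_comm]
  have hCJn : ∀ k : G, (k * d.z * k⁻¹ = d.z ∧ k * inv2 d g * k⁻¹ = inv2 d g) ∨
      (k * d.z * k⁻¹ = inv2 d g ∧ k * inv2 d g * k⁻¹ = d.z) → k * (d.z * inv2 d g) * k⁻¹ = d.z * inv2 d g →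
      ∀ x ∈ CJ, k * x * k⁻¹ ∈ CJ := by
    intro k hk hk' x hx
    refine ⟨hJn k hk x hx.1, Subgroup.mem_centralizer_singleton_iff.2 ?_⟩
    have h1 := (Commute.conj_iff k).2
      (show Commute x (d.z * inv2 d g) from Subgroup.mem_centralizer_singleton_iff.1 hx.2)
    rw [hk'] at h1
    exact h1.eq
  have hCJ2 : ∀ x ∈ CJ, x ∈ Rc d g r (g * g) := by
    intro x hx
    have hxu : x * inv2 d (g * g) = inv2 d (g * g) * x := by
      rw [hgg]; exact Subgroup.mem_centralizer_singleton_iff.1 hx.2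
    obtain ⟨i, hi⟩ := hJp ⟨x, hx.1⟩
    have hxi : x ^ r ^ i = 1 := by simpa using congrArg Subtype.val hi
    set e' := (g * g)⁻¹ * x * (g * g) with he'
    have he'inv : inv2 d g * e' * (inv2 d g)⁻¹ = e'⁻¹ := by
      rw [← hback2, show (g * g)⁻¹ * d.z * (g * g) * e' * ((g * g)⁻¹ * d.z * (g * g))⁻¹ =
        (g * g)⁻¹ * (d.z * x * d.z⁻¹) * (g * g) by rw [he']; generalize g * g = k; group, hCJinv x hx, he']
      generalize g * g = k
      group
    have hr2 : r ≠ 2 := fun e => absurd (e ▸ s.odd_r) (by decide)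
    rcases c2.shape s.prime hr2 ρ hns hg₂ hxu (hCJinv x hx) hxi (fun a ha hau => by
      rw [hgg] at hau
      refine hCJcomm x hx _ (hCJn a (Or.inl ⟨mul_inv_eq_iff_eq_mul.2 (Frame.Spec.z_central (d.D_le ha)), ?_⟩)
        (mul_inv_eq_iff_eq_mul.2 hau) x hx)
      refine mul_inv_eq_iff_eq_mul.2 ?_
      have h1 := ((show Commute a d.z from Frame.Spec.z_central (d.D_le ha)).mul_right hau).eq
      rwa [s.z_conj_zz] at h1) with h | ⟨-, N₂, A₂, hN₂, hNN₂, hgN₂, hA₂, hσ₂⟩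
    · refine mem_Rc.2 (s.ctx.mem_invR.2 ⟨s.ctx.mem_invI.2 ⟨h, he'inv⟩, i, ?_⟩)
      have e := conj_pow (i := r ^ i) (a := (g * g)⁻¹) (b := x)
      rw [inv_inv] at e
      rw [e, hxi, mul_one, inv_mul_cancel]
    · exfalso
      set Ww := ρ.π ⟨w, hd.D_le_L hq hw⟩ with hWw
      have he'C : e' ∈ d.C := c2.back_conj_mem hxu
      have he''C : w * e' * w⁻¹ ∈ d.C := mul_mem (mul_mem (d.D_le hw) he'C) (inv_mem (d.D_le hw))
      have hcomm : e' * (w * e' * w⁻¹) = w * e' * w⁻¹ * e' := by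
        have h1 := hCJcomm x hx _ (hCJn m₂ (Or.inr ⟨hm₂z, hm₂u⟩) hm₂C x hx)
        have h3 := (Commute.conj_iff (g * g)⁻¹).2 h1
        rw [show (g * g)⁻¹ * x * (g * g)⁻¹⁻¹ = e' by rw [he', inv_inv],
          show (g * g)⁻¹ * (m₂ * x * m₂⁻¹) * (g * g)⁻¹⁻¹ = w * e' * w⁻¹ by
            rw [hm₂, he']; generalize g * g = k; group] at h3
        exact h3.eq
      have hA₂c : ConjBy (ρ.σ ⟨e', he'C⟩) (Matrix.SpecialLinearGroup.toGL A₂) := by
        rw [show ρ.σ ⟨e', he'C⟩ = MulAut.conj A₂ from hσ₂]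
        exact conjBy_conj A₂
      have hWA : ConjBy (ρ.σ ⟨w * e' * w⁻¹, he''C⟩) (Matrix.SpecialLinearGroup.toGL (Ww * A₂ * Ww⁻¹)) := by
        have hw' : ρ.σ ⟨w, d.D_le hw⟩ = MulAut.conj Ww := MulEquiv.ext fun X => by
          rw [ρ.sigma_inner ⟨w, hd.D_le_L hq hw⟩ X]; rfl
        rw [show (⟨w * e' * w⁻¹, he''C⟩ : ↥d.C) = ⟨w, d.D_le hw⟩ * ⟨e', he'C⟩ * ⟨w, d.D_le hw⟩⁻¹ from rfl,
          map_mul, map_mul, map_inv, hw', show ρ.σ ⟨e', he'C⟩ = MulAut.conj A₂ from hσ₂, ← map_inv, ← map_mul,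
          ← map_mul]
        exact conjBy_conj _
      have h4 := ρ.commute_of_comm hd hq s.ctx.hyp he'C he''C hcomm hA₂c hWA
      have hW1 : Ww.1 * (Ww⁻¹ : SL[d]).1 = 1 := congrArg Subtype.val (mul_inv_cancel Ww)
      change Commute A₂.1 (Ww * A₂ * Ww⁻¹ : SL[d]).1 at h4
      rw [Matrix.SpecialLinearGroup.coe_mul, Matrix.SpecialLinearGroup.coe_mul, hA₂, Matrix.mul_add,
        Matrix.add_mul, Matrix.mul_one, hW1] at h4
      have h5 := (h4.sub_left (Commute.one_left _)).sub_right ((Commute.one_right _))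
      rw [add_sub_cancel_left, add_sub_cancel_left] at h5
      refine W.swap_false h2 hN₂ hNN₂ hgN₂ (W := Matrix.SpecialLinearGroup.toGL Ww) hW ?_
      rw [← map_inv]
      exact h5
  set m₁ := g * w * g⁻¹ with hm₁
  have hgzv : g * (d.z * inv2 d g) * g⁻¹ = d.z := s.gzu
  have hm₁z : m₁ * d.z * m₁⁻¹ = d.z * inv2 d g := by
    nth_rewrite 1 [← hgzv]
    rw [hm₁, show g * w * g⁻¹ * (g * (d.z * inv2 d g) * g⁻¹) * (g * w * g⁻¹)⁻¹ =
      g * (w * (d.z * inv2 d g) * w⁻¹) * g⁻¹ by group, e2, s.gu]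
  have hm₁u : m₁ * inv2 d g * m₁⁻¹ = inv2 d g := by
    show g * w * g⁻¹ * (g * d.z * g⁻¹) * (g * w * g⁻¹)⁻¹ = g * d.z * g⁻¹
    calc g * w * g⁻¹ * (g * d.z * g⁻¹) * (g * w * g⁻¹)⁻¹ = g * (w * d.z) * w⁻¹ * g⁻¹ := by group
      _ = g * (d.z * w) * w⁻¹ * g⁻¹ := by rw [Frame.Spec.z_central (d.D_le hw)]
      _ = _ := by group
  have hCJ1 : ∀ x ∈ CJ, x = 1 := by
    intro x hx
    set c' := g⁻¹ * x * g with hc'
    have hx2 := hCJ2 x hx
    have hD : d.D ≤ Subgroup.centralizer ({c'} : Set G) := by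
      refine D_le_of_roots s.ctx ρ hN hNN hgN hw hW fun a => ?_
      obtain ⟨e, he, hπ, heP⟩ := hroots a
      refine ⟨e, he, hπ, Subgroup.mem_centralizer_singleton_iff.2 ?_, Subgroup.mem_centralizer_singleton_iff.2 ?_⟩
      · have h1 := Subgroup.mem_centralizer_iff.1 (hJM hx.1) _ ⟨⟨e, he, rfl⟩, heP⟩
        have h3 := (Commute.conj_iff g⁻¹).2 (show Commute (g * e * g⁻¹) x from h1)
        rw [show g⁻¹ * (g * e * g⁻¹) * g⁻¹⁻¹ = e by group, inv_inv] at h3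
        exact h3.eq
      · obtain ⟨x₀, hx₀, hx₀e⟩ : ∃ x₀ ∈ invR d g r, m₁ * x₀ * m₁⁻¹ = x := by
          have h1 : m₁⁻¹ * x * m₁ ∈ Rc d g r 1 := by
            have h3 := s.Rc_map (k := m₁⁻¹) (k₁ := g * g) (k₂ := 1) (x := x) (by
              rw [s.gg_z, ← hm₁z]; group) hx2
            rwa [inv_inv] at h3
          exact ⟨m₁⁻¹ * x * m₁, hR ▸ h1, by group⟩
        have h3 : Commute (g * e * g⁻¹) x₀ := s.top_commute_R t heP hx₀
        have h4 := (Commute.conj_iff m₁).2 h3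
        rw [hx₀e] at h4
        have h5 := (Commute.conj_iff g⁻¹).2 h4
        rw [show g⁻¹ * (m₁ * (g * e * g⁻¹) * m₁⁻¹) * g⁻¹⁻¹ = w * e * w⁻¹ by rw [hm₁]; group, inv_inv] at h5
        exact h5.eq
    have hc'R1 : g⁻¹ * c' * g ∈ d.O := by
      have h1 := s.ctx.invI_le (s.invR_le (mem_Rc.1 hx2))
      rwa [show (g * g)⁻¹ * x * (g * g) = g⁻¹ * c' * g by rw [hc']; group] at h1
    have hc'odd : Odd (orderOf c') := by
      rw [hc', show orderOf (g⁻¹ * x * g) = orderOf x by simpa using orderOf_cj g⁻¹ x]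
      exact hJodd.of_dvd_nat (Subgroup.orderOf_dvd_natCard _ hx.1)
    have h1 : c' = 1 := s.ctx.hyp.pair_trivial_elem hd hq s.ctx.od s.ctx.hne s.ctx.hcm hc'odd
      (fun a ha => (Subgroup.mem_centralizer_singleton_iff.1 (hD ha)).symm) fun a ha => by
        have h3 := (Commute.conj_iff g).2 (show Commute (g⁻¹ * c' * g) a from s.ctx.od _ hc'R1 a ha)
        rw [show g * (g⁻¹ * c' * g) * g⁻¹ = c' by group] at h3
        exact h3.eq
    calc x = g * c' * g⁻¹ := by rw [hc']; group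
      _ = 1 := by rw [h1, mul_one, mul_inv_cancel]
  have hzu2 : d.z * inv2 d g * (d.z * inv2 d g) = 1 := by
    rw [mul_assoc, ← mul_assoc (inv2 d g), ← s.zu_comm, mul_assoc d.z (inv2 d g), s.uu, mul_one, s.zz]
  have hJinv : ∀ x ∈ J, d.z * inv2 d g * x * (d.z * inv2 d g)⁻¹ = x⁻¹ := by
    intro x hx
    obtain ⟨a, ha, b, -, hza, hzb, e⟩ := exists_fixed_mul_inverted hJodd hJzu hzu2 hx
    rw [e, hCJ1 a ⟨ha, Subgroup.mem_centralizer_singleton_iff.2 (mul_inv_eq_iff_eq_mul.1 hza).symm⟩, one_mul]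
    exact hzb
  -- the abelian group `R R₁ R₂`
  have hcomm01 : ∀ x ∈ invR d g r, ∀ a ∈ Rc d g r g, Commute x a := fun x hx a ha => by
    have hxJ : x ∈ J := Subgroup.mem_sup_left hx
    have haJ : a ∈ J := Subgroup.mem_sup_right ha
    have h1 := hJinv _ (mul_mem hxJ haJ)
    rw [show d.z * inv2 d g * (x * a) * (d.z * inv2 d g)⁻¹ = (d.z * inv2 d g * x * (d.z * inv2 d g)⁻¹) *
      (d.z * inv2 d g * a * (d.z * inv2 d g)⁻¹) by group, hJinv x hxJ, hJinv a haJ, mul_inv_rev] at h1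
    exact Commute.inv_inv_iff.1 h1
  set A₀ := invR d g r ⊔ Rc d g r g ⊔ Rc d g r (g * g) with hA₀
  have hcomm02 : ∀ x ∈ invR d g r, ∀ a ∈ Rc d g r (g * g), Commute x a :=
    fun x hx => (s.Rc_commute hx (Or.inl (hcomm01 x hx))).2
  have hg0 : ∀ {x : G}, x ∈ invR d g r → g * x * g⁻¹ ∈ Rc d g r g := fun hx => mem_Rc.2 (by
    simpa [mul_assoc] using hx)
  have hg2 : ∀ {x : G}, x ∈ Rc d g r (g * g) → g * x * g⁻¹ ∈ invR d g r := fun hx => by
    have := Rc_mul (h := g) hx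
    rwa [← mul_assoc g g g, s.Rc_one s.ggg] at this
  have hA₀P : A₀ ≤ P := by
    have key : ∀ k : G, (∀ x ∈ Rc d g r k, d.z * x * d.z⁻¹ = x⁻¹) → (∀ x ∈ Rc d g r k, ∀ a ∈ invR d g r,
        Commute a x) → inv2 d g ∈ Subgroup.normalizer (Rc d g r k : Set G) → Rc d g r k ≤ P := by
      intro k hkz hkc hku
      refine t.max _ (fun x hx => ?_) (s.invR_pgroup.map _) (four_le ?_ hku)
      · refine s.mem_coreR (Subgroup.mem_centralizer_iff.2 fun a ha => (hkc x hx a ha).eq) ?_ (hkz x hx)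
        rw [show orderOf x = orderOf (k⁻¹ * x * k) by simpa using (orderOf_cj k⁻¹ x).symm]
        exact s.ctx.invI_odd.of_dvd_nat (Subgroup.orderOf_dvd_natCard _ (s.invR_le (mem_Rc.1 hx)))
      · exact Subgroup.mem_normalizer_fintype fun x hx => by rw [hkz x hx]; exact inv_mem hx
    have hz1 : ∀ x ∈ Rc d g r g, d.z * x * d.z⁻¹ = x⁻¹ := fun x hx => by
      have h1 := congrArg (fun a => g * a * g⁻¹) (s.invR_acts (mem_Rc.1 hx)).2.2
      rw [show g * (d.z * inv2 d g * (g⁻¹ * x * g) * (d.z * inv2 d g)⁻¹) * g⁻¹ =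
        (g * (d.z * inv2 d g) * g⁻¹) * x * (g * (d.z * inv2 d g) * g⁻¹)⁻¹ by group, s.gzu,
        show g * (g⁻¹ * x * g)⁻¹ * g⁻¹ = x⁻¹ by group] at h1
      exact h1
    have hz2 : ∀ x ∈ Rc d g r (g * g), d.z * x * d.z⁻¹ = x⁻¹ := fun x hx => by
      have h1 := congrArg (fun a => g * g * a * (g * g)⁻¹) (s.invR_acts (mem_Rc.1 hx)).2.1
      rw [show g * g * (inv2 d g * ((g * g)⁻¹ * x * (g * g)) * (inv2 d g)⁻¹) * (g * g)⁻¹ =
        (g * g * inv2 d g * (g * g)⁻¹) * x * (g * g * inv2 d g * (g * g)⁻¹)⁻¹ by generalize g * g = k; group, hggu,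
        show g * g * ((g * g)⁻¹ * x * (g * g))⁻¹ * (g * g)⁻¹ = x⁻¹ by generalize g * g = k; group] at h1
      exact h1
    refine sup_le (sup_le (s.invR_le_top t) (key g hz1 (fun x hx a ha => hcomm01 a ha x hx)
      (hUR1 (right_mem_four _ _)))) (key _ hz2 (fun x hx a ha => hcomm02 a ha x hx) ?_)
    exact Subgroup.mem_normalizer_fintype fun x hx => s.Rc_map (k := inv2 d g) (k₁ := g * g) (k₂ := g * g) (by
      rw [s.gg_z]; exact mul_inv_eq_iff_eq_mul.2 (by rw [← mul_assoc (inv2 d g), ← s.zu_comm])) hx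
  have hgA : g ∈ Subgroup.normalizer (A₀ : Set G) := by
    refine Subgroup.mem_normalizer_fintype fun x hx => ?_
    have : A₀ ≤ A₀.comap (MulAut.conj g).toMonoidHom := sup_le (sup_le
      (fun a ha => Subgroup.mem_sup_left (Subgroup.mem_sup_right (hg0 ha)))
      (fun a ha => Subgroup.mem_sup_right (Rc_mul ha)))
      (fun a ha => Subgroup.mem_sup_left (Subgroup.mem_sup_left (hg2 ha)))
    exact this hx
  have hyA : y ∉ A₀ := fun h => by
    have h1 : g⁻¹ * y * g ∈ A₀ := (Subgroup.mem_normalizer_iff''.1 hgA y).1 h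
    exact hroot (s.ctx.invI_le (s.invR_le (s.top_inf_C t (hA₀P h1)
      (Frame.Spec.z_central (s.ctx.back_conj_mem hyu)))))
  have hperm : ∀ k : G, ((k * d.z * k⁻¹ = d.z ∧ k * inv2 d g * k⁻¹ = inv2 d g) ∨
      (k * d.z * k⁻¹ = d.z * inv2 d g ∧ k * inv2 d g * k⁻¹ = inv2 d g) ∨
      (k * d.z * k⁻¹ = d.z ∧ k * inv2 d g * k⁻¹ = d.z * inv2 d g)) →
      k ∈ Subgroup.normalizer (A₀ : Set G) := by
    intro k hk
    refine Subgroup.mem_normalizer_fintype fun x hx => ?_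
    have hzu : k * (d.z * inv2 d g) * k⁻¹ = (k * d.z * k⁻¹) * (k * inv2 d g * k⁻¹) := by group
    have h0 : (1 : G) * d.z * (1 : G)⁻¹ = d.z := by group
    have h1 : g * d.z * g⁻¹ = inv2 d g := rfl
    have key : ∀ k₁ : G, (k * (k₁ * d.z * k₁⁻¹) * k⁻¹ = d.z ∨ k * (k₁ * d.z * k₁⁻¹) * k⁻¹ = inv2 d g ∨
        k * (k₁ * d.z * k₁⁻¹) * k⁻¹ = d.z * inv2 d g) → Rc d g r k₁ ≤ A₀.comap (MulAut.conj k).toMonoidHom := by
      intro k₁ hk₁ a ha
      show k * a * k⁻¹ ∈ A₀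
      rcases hk₁ with e | e | e
      · refine Subgroup.mem_sup_left (Subgroup.mem_sup_left ?_)
        rw [hR]; exact s.Rc_map (k₂ := 1) (by rw [e, h0]) ha
      · exact Subgroup.mem_sup_left (Subgroup.mem_sup_right (s.Rc_map (k₂ := g) (by rw [e, h1]) ha))
      · exact Subgroup.mem_sup_right (s.Rc_map (k₂ := g * g) (by rw [e, s.gg_z]) ha)
    have hle : A₀ ≤ A₀.comap (MulAut.conj k).toMonoidHom := by
      refine sup_le (sup_le (hR.le.trans (key 1 ?_)) (key g ?_)) (key (g * g) ?_)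
      · rw [h0]; rcases hk with ⟨a, -⟩ | ⟨a, -⟩ | ⟨a, -⟩
        exacts [Or.inl a, Or.inr (Or.inr a), Or.inl a]
      · rw [h1]; rcases hk with ⟨-, b⟩ | ⟨-, b⟩ | ⟨-, b⟩
        exacts [Or.inr (Or.inl b), Or.inr (Or.inl b), Or.inr (Or.inr b)]
      · rw [s.gg_z, hzu]; rcases hk with ⟨a, b⟩ | ⟨a, b⟩ | ⟨a, b⟩ <;> rw [a, b]
        · exact Or.inr (Or.inr rfl)
        · exact Or.inl (by rw [mul_assoc, s.uu, mul_one])
        · exact Or.inr (Or.inl s.z_conj_zz)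
    exact hle hx
  set Q := P ⊓ Subgroup.normalizer (A₀ : Set G) with hQ
  have hQU : four d.z (inv2 d g) ≤ Subgroup.normalizer (Q : Set G) := by
    have key : ∀ k : G, k ∈ Subgroup.normalizer (P : Set G) → k ∈ Subgroup.normalizer (A₀ : Set G) →
        k ∈ Subgroup.normalizer (Q : Set G) := fun k h1 h3 => Subgroup.mem_normalizer_fintype fun a ha =>
      ⟨(Subgroup.mem_normalizer_iff.1 h1 a).1 ha.1,
        Subgroup.mul_mem _ (Subgroup.mul_mem _ h3 ha.2) (Subgroup.inv_mem _ h3)⟩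
    exact four_le
      (key _ (t.invariant (left_mem_four _ _))
        (hperm _ (Or.inl ⟨mul_inv_cancel_right _ _, mul_inv_eq_iff_eq_mul.2 s.zu_comm⟩)))
      (key _ (t.invariant (right_mem_four _ _))
        (hperm _ (Or.inl ⟨mul_inv_eq_iff_eq_mul.2 s.zu_comm.symm, mul_inv_cancel_right _ _⟩)))
  obtain ⟨y₁, hy₁Q, hy₁u, hy₁A⟩ : ∃ y₁ ∈ Q, y₁ * inv2 d g = inv2 d g * y₁ ∧ y₁ ∉ A₀ := by
    by_contra hno
    have hall : ∀ a ∈ Q, a * inv2 d g = inv2 d g * a → a ∈ A₀ := fun a ha hau => by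
      by_contra h
      exact hno ⟨a, ha, hau, h⟩
    haveI : IsMulCommutative ↥(four d.z (inv2 d g)) :=
      ⟨⟨fun a b => Subtype.ext (four_comm hd.zord s.ctx.inv2_order s.zu_comm s.ctx.inv2_ne a.2 b.2)⟩⟩
    have hQA : Q ≤ A₀ := by
      rw [← CfsgLib.coprime_generated_by_centralizers (A := four d.z (inv2 d g)) (K := Q)
        (by haveI := isKleinFour_four hd.zord s.ctx.inv2_order s.zu_comm s.ctx.inv2_ne
            exact IsKleinFour.not_isCyclic) hQU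
        (s.four_coprime.coprime_dvd_right (Subgroup.card_dvd_of_le (inf_le_left.trans t.le)))]
      refine iSup₂_le fun a ha x hx => ?_
      obtain ⟨ha, ha1⟩ := ha
      have hxa : x * a = a * x := Subgroup.mem_centralizer_singleton_iff.1 hx.2
      rcases (mem_four hd.zord s.ctx.inv2_order s.zu_comm).1 ha with e | e | e | e
      · exact absurd e ha1
      · exact Subgroup.mem_sup_left (Subgroup.mem_sup_left (s.top_inf_C t hx.1.1 (e ▸ hxa)))
      · exact hall x hx.1 (e ▸ hxa)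
      · rw [e] at hxa
        have hwA : w ∈ Subgroup.normalizer (A₀ : Set G) :=
          hperm w (Or.inr (Or.inr ⟨mul_inv_eq_iff_eq_mul.2 (Frame.Spec.z_central (d.D_le hw)), e1⟩))
        have hx' : w⁻¹ * x * w ∈ Q := by
          refine ⟨by simpa using s.D_conj_top t (inv_mem hw) hx.1.1, ?_⟩
          exact Subgroup.mul_mem _ (Subgroup.mul_mem _ (Subgroup.inv_mem _ hwA) hx.1.2) hwA
        have hxu' : w⁻¹ * x * w * inv2 d g = inv2 d g * (w⁻¹ * x * w) := by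
          have he : inv2 d g = w⁻¹ * (d.z * inv2 d g) * w := by rw [← e1]; group
          rw [he]
          calc w⁻¹ * x * w * (w⁻¹ * (d.z * inv2 d g) * w) = w⁻¹ * (x * (d.z * inv2 d g)) * w := by group
            _ = w⁻¹ * (d.z * inv2 d g * x) * w := by rw [hxa]
            _ = _ := by group
        have := (Subgroup.mem_normalizer_iff.1 hwA _).1 (hall _ hx' hxu')
        rwa [show w * (w⁻¹ * x * w) * w⁻¹ = x by group] at this
    haveI : Group.IsNilpotent ↥P := t.pgroup.isNilpotent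
    have hlt : A₀.subgroupOf P < ⊤ := lt_top_iff_ne_top.2 fun e => hyA (by
      have : (⟨y, hy⟩ : ↥P) ∈ A₀.subgroupOf P := e ▸ Subgroup.mem_top _
      exact this)
    obtain ⟨⟨q, hqP⟩, hqN, hqA⟩ := SetLike.exists_of_lt (Group.normalizerCondition_of_isNilpotent _ hlt)
    refine hqA (hQA ⟨hqP, Subgroup.mem_normalizer_fintype fun a ha => ?_⟩)
    exact (Subgroup.mem_normalizer_iff.1 hqN ⟨a, hA₀P ha⟩).1 ha
  have hy₁root : g⁻¹ * y₁ * g ∉ d.O := fun hO =>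
    hy₁A (Subgroup.mem_sup_left (Subgroup.mem_sup_right (s.mem_Rc_of_core t hy₁Q.1 hy₁u hO)))
  obtain ⟨-, N', A', hN', hNN', hgN', hA', hσ'⟩ := (s.top_shape t ρ hns hg₁ hy₁Q.1 hy₁u).resolve_left hy₁root
  have hroots' := s.root_group ρ hg₁ (Q := Q) (fun a ha hav => Subgroup.mem_normalizer_fintype fun b hb => by
    have hA1 := hperm (g * a * g⁻¹) (Or.inl (s.torus_fix (d.D_le ha) hav))
    exact ⟨(Subgroup.mem_normalizer_iff.1 (htP a ha hav) b).1 hb.1,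
      Subgroup.mul_mem _ (Subgroup.mul_mem _ hA1 hb.2) (Subgroup.inv_mem _ hA1)⟩) hy₁Q hy₁u (hpP y₁ hy₁Q.1)
    hN' hNN' hgN' hA' hσ'
  have hm₁A : m₁ ∈ Subgroup.normalizer (A₀ : Set G) := hperm m₁ (Or.inr (Or.inl ⟨hm₁z, hm₁u⟩))
  have hDg : d.D ≤ (Subgroup.normalizer (A₀ : Set G)).comap (MulAut.conj g).toMonoidHom := by
    refine D_le_of_roots s.ctx ρ hN' hNN' hgN' hw hW fun a => ?_
    obtain ⟨e, he, hπ, heQ⟩ := hroots' a
    refine ⟨e, he, hπ, heQ.2, ?_⟩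
    show g * (w * e * w⁻¹) * g⁻¹ ∈ Subgroup.normalizer (A₀ : Set G)
    rw [show g * (w * e * w⁻¹) * g⁻¹ = m₁ * (g * e * g⁻¹) * m₁⁻¹ by rw [hm₁]; group]
    exact mul_mem (mul_mem hm₁A heQ.2) (inv_mem hm₁A)
  have hDA : d.D ≤ Subgroup.normalizer (A₀ : Set G) := fun a ha => by
    have h1 : g * a * g⁻¹ ∈ Subgroup.normalizer (A₀ : Set G) := hDg ha
    simpa [mul_assoc] using mul_mem (mul_mem (inv_mem hgA) h1) hgA
  have hbot := s.ctx.hyp.pair_trivial hd hq s.ctx.od ((s.top_odd t).of_dvd_nat (Subgroup.card_dvd_of_le hA₀P))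
    hDA s.ctx.hne s.ctx.hcm fun a ha => hDg ha
  obtain ⟨a, ha, ha1⟩ := s.exists_ne
  refine ha1 ?_
  have : a ∈ A₀ := Subgroup.mem_sup_left (Subgroup.mem_sup_left ha)
  rwa [hbot, Subgroup.mem_bot] at this

/-- **`P = R`.** -/
theorem Std.top_eq : P = invR d g r := s.good t fun _ hy hyu => s.no_root t hy hyu

end CfsgLib.RankTwoModel.L4
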